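import Cfsg.Agent.H386.HalfTwo.Base
import Cfsg.Agent.H488.ThreePsl

/-!
# `(2+1/2)`-transitive groups (S3576): the row `PSL_d(q)`, `d ≥ 3` (helper386)

The stabiliser of two points `a`, `b` in `T` has only orbits of length `≥ q ^ 2` outside the line `ab`; so the orbit of a
third point of the line under `G_ab` stays on the line and has length at most `q + 1`.
-/

set_option autoImplicit false
set_option linter.unusedSectionVars false

namespace Cfsg.Agent.H386.HalfTwo

open MulAction Matrix Cfsg.Agent.H392.MultTrans Cfsg.Agent.H384.TwoTrans Cfsg.Agent.H488.ThreeHalf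
open scoped LinearAlgebra.Projectivization

universe u v

section vec

variable {F : Type*} [Field F] {ι : Type*} [Fintype ι] [DecidableEq ι]

theorem tr_vec {i j : ι} (hij : i ≠ j) (x : F) (v : ι → F) :
    (SpecialLinearGroup.transvection hij x).1 *ᵥ v = v + (x * v j) • Pi.single i 1 := by
  have h0 : (SpecialLinearGroup.transvection hij x).1 = 1 + Matrix.single i j x := rfl
  rw [h0, add_mulVec, one_mulVec]
  congr 1
  ext l
  rw [Matrix.single_mulVec]
  by_cases hl : l = i
  · subst hl; simp
  · simp [hl]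

/-- the vector `v + x v_k e_i + y v_k e_j` -/
def qv (i j k : ι) (v : ι → F) (x y : F) : ι → F := v + (x * v k) • Pi.single i 1 + (y * v k) • Pi.single j 1

theorem qv_k {i j k : ι} (hik : i ≠ k) (hjk : j ≠ k) (v : ι → F) (x y : F) : qv i j k v x y k = v k := by
  simp [qv, Pi.single_eq_of_ne hik.symm, Pi.single_eq_of_ne hjk.symm]

theorem qv_ne {i j k : ι} (hik : i ≠ k) (hjk : j ≠ k) {v : ι → F} (hv : v k ≠ 0) (x y : F) : qv i j k v x y ≠ 0 := by
  intro h
  have := congrFun h k
  rw [qv_k hik hjk] at this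
  exact hv this

theorem tr_qv {i j k : ι} (hij : i ≠ j) (hik : i ≠ k) (hjk : j ≠ k) {v : ι → F} (x y : F) :
    ((SpecialLinearGroup.transvection hik x * SpecialLinearGroup.transvection hjk y : SpecialLinearGroup ι F)).1 *ᵥ v =
      qv i j k v x y := by
  change ((SpecialLinearGroup.transvection hik x).1 * (SpecialLinearGroup.transvection hjk y).1) *ᵥ v = _
  rw [← mulVec_mulVec, tr_vec, tr_vec, qv]
  have h1 : (v + (y * v k) • (Pi.single j 1 : ι → F)) k = v k := by
    simp [Pi.single_eq_of_ne hjk.symm]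
  rw [h1]
  abel

theorem qv_inj {i j k : ι} (hij : i ≠ j) (hik : i ≠ k) (hjk : j ≠ k) {v : ι → F} (hv : v k ≠ 0) {x y x' y' : F}
    (h : Projectivization.mk F (qv i j k v x y) (qv_ne hik hjk hv x y) =
      Projectivization.mk F (qv i j k v x' y') (qv_ne hik hjk hv x' y')) : x = x' ∧ y = y' := by
  rw [Projectivization.mk_eq_mk_iff'] at h
  obtain ⟨l, hl⟩ := h
  have h1 := congrFun hl k
  rw [Pi.smul_apply, qv_k hik hjk, qv_k hik hjk, smul_eq_mul] at h1
  have hl1 : l = 1 := by
    have : (l - 1) * v k = 0 := by rw [sub_mul, h1, one_mul, sub_self]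
    rcases mul_eq_zero.1 this with h | h
    · exact sub_eq_zero.1 h
    · exact absurd h hv
  rw [hl1, one_smul] at hl
  have h2 := congrFun hl i
  have h3 := congrFun hl j
  simp [qv, Pi.single_eq_of_ne hij, hv] at h2
  simp [qv, Pi.single_eq_of_ne hij.symm, hv] at h3
  exact ⟨h2.symm, h3.symm⟩

/-- the points of the line `P i`, `P j` -/
def lineSet (F : Type*) [Field F] {ι : Type*} [DecidableEq ι] (i j : ι) : Set (ℙ F (ι → F)) :=
  {p | ∀ k, k ≠ i → k ≠ j → p.rep k = 0}

end vec

theorem mem_lineSet_of {F : Type*} [Field F] {ι : Type*} [DecidableEq ι] {i j : ι} {v : ι → F} (hv : v ≠ 0)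
    (h : ∀ k, k ≠ i → k ≠ j → v k = 0) : Projectivization.mk F v hv ∈ lineSet F i j := by
  intro k h1 h2
  obtain ⟨c, hc⟩ := Projectivization.exists_smul_eq_mk_rep F v hv
  rw [← hc]
  show c • v k = 0
  rw [h k h1 h2, smul_zero]

theorem card_lineSet {F : Type*} [Field F] [Fintype F] {ι : Type*} [Fintype ι] [DecidableEq ι] {i j : ι} (hij : i ≠ j) :
    (lineSet F i j).ncard ≤ Fintype.card F + 1 := by
  have h1 : lineSet F i j ⊆ insert (P F j) ((fun x : F => L hij x) '' Set.univ) := by
    intro p hp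
    by_cases hi : p.rep i = 0
    · left
      rw [← Projectivization.mk_rep p, P, Projectivization.mk_eq_mk_iff']
      refine ⟨p.rep j, ?_⟩
      ext k
      by_cases hk : k = j
      · subst hk; simp
      · rw [Pi.smul_apply, Pi.single_eq_of_ne hk, smul_zero]
        by_cases hk' : k = i
        · rw [hk', hi]
        · rw [hp k hk' hk]
    · right
      refine ⟨(p.rep i)⁻¹ * p.rep j, trivial, ?_⟩
      show L hij _ = p
      rw [← Projectivization.mk_rep p, L, Projectivization.mk_eq_mk_iff']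
      refine ⟨(p.rep i)⁻¹, ?_⟩
      ext k
      by_cases hk : k = i
      · subst hk
        simp [Pi.single_eq_of_ne hij, hi]
      · by_cases hk' : k = j
        · subst hk'
          simp [Pi.single_eq_of_ne hij.symm]
        · have := hp k hk hk'
          simp [Pi.single_eq_of_ne hk, Pi.single_eq_of_ne hk', this]
  calc (lineSet F i j).ncard ≤ _ := Set.ncard_le_ncard h1 (Set.toFinite _)
    _ ≤ ((fun x : F => L hij x) '' Set.univ).ncard + 1 := Set.ncard_insert_le _ _
    _ ≤ (Set.univ : Set F).ncard + 1 := Nat.add_le_add_right (Set.ncard_image_le (Set.toFinite _)) 1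
    _ = Fintype.card F + 1 := by rw [Set.ncard_univ, Nat.card_eq_fintype_card]

variable {G : Type u} {Ω : Type v} [Group G] [MulAction G Ω] {T : Subgroup G} {m : ℕ}

theorem not_psl_half (A : AS G Ω T) (H : Half G Ω m) {F : Type*} [Field F] [Fintype F]
    {ι : Type*} [Fintype ι] [DecidableEq ι] {i j k : ι} (hij : i ≠ j) (hik : i ≠ k) (hjk : j ≠ k)
    (e : T ≃* ProjectiveSpecialLinearGroup ι F) (Φ : Ω ≃ ℙ F (ι → F))
    (hΦ : ∀ (t : T) (ω : Ω), Φ (t • ω) = e t • Φ ω) : False := by
  have := A.finG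
  have := A.finΩ
  have h1 : 1 < Fintype.card F := Fintype.one_lt_card
  have hlift : ∀ (M : SpecialLinearGroup ι F) (p : ℙ F (ι → F)),
      e.symm (QuotientGroup.mk M) • Φ.symm p = Φ.symm (M • p) := by
    intro M p
    apply Φ.injective
    rw [hΦ, e.apply_symm_apply, Φ.apply_symm_apply, Φ.apply_symm_apply]
    rfl
  have hPne : ∀ {i j : ι}, i ≠ j → P F i ≠ P F j := by
    intro i j hij h
    rw [P, P, Projectivization.mk_eq_mk_iff'] at h
    obtain ⟨l, hl⟩ := h
    have := congrFun hl i
    simp [Pi.single_eq_of_ne hij] at this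
  have hLne : ∀ k : ι, k = i ∨ k = j → L hij (1 : F) ≠ P F k := by
    intro k hk h
    rw [L, P, Projectivization.mk_eq_mk_iff'] at h
    obtain ⟨l, hl⟩ := h
    have h4 := congrFun hl i
    have h5 := congrFun hl j
    rcases hk with rfl | rfl
    · simp [Pi.single_eq_of_ne hij.symm] at h5
    · simp [Pi.single_eq_of_ne hij] at h4
  set a := Φ.symm (P F i) with ha
  set b := Φ.symm (P F j) with hb
  have hab : a ≠ b := fun h => hPne hij (Φ.symm.injective h)
  -- the orbits outside the line are long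
  have hge : ∀ p : ℙ F (ι → F), p ∉ lineSet F i j →
      Fintype.card F * Fintype.card F ≤ Nat.card (orbit (TT T a b) (Φ.symm p)) := by
    intro p hp
    have hp' : ∃ k, k ≠ i ∧ k ≠ j ∧ p.rep k ≠ 0 := by
      by_contra hcon
      push Not at hcon
      exact hp hcon
    obtain ⟨k, hki, hkj, hk⟩ := hp'
    have h4 : (fun x : F × F => Φ.symm (Projectivization.mk F (qv i j k p.rep x.1 x.2)
        (qv_ne hki.symm hkj.symm hk x.1 x.2))) '' Set.univ ⊆ orbit (TT T a b) (Φ.symm p) := by
      rintro _ ⟨⟨x, y⟩, -, rfl⟩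
      set M := SpecialLinearGroup.transvection hki.symm x * SpecialLinearGroup.transvection hkj.symm y with hM
      refine ⟨⟨(e.symm (QuotientGroup.mk M) : G), ?_⟩, ?_⟩
      · rw [mem_TT]
        refine ⟨(e.symm (QuotientGroup.mk M)).2, ?_, ?_⟩
        · show e.symm (QuotientGroup.mk M) • Φ.symm (P F i) = _
          rw [hlift, hM, mul_smul, tr_P hkj.symm hki.symm, tr_P hki.symm hki.symm]
        · show e.symm (QuotientGroup.mk M) • Φ.symm (P F j) = _
          rw [hlift, hM, mul_smul, tr_P hkj.symm hkj.symm, tr_P hki.symm hkj.symm]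
      · show e.symm (QuotientGroup.mk M) • Φ.symm p = Φ.symm _
        rw [hlift]
        congr 1
        conv_lhs => rw [← Projectivization.mk_rep p]
        rw [Projectivization.smul_mk]
        congr 1
        rw [smul_eq, hM, tr_qv hij hki.symm hkj.symm]
    rw [Nat.card_coe_set_eq]
    calc Fintype.card F * Fintype.card F = (Set.univ : Set (F × F)).ncard := by
          rw [Set.ncard_univ, Nat.card_eq_fintype_card, Fintype.card_prod]
      _ = _ := by
          rw [Set.ncard_image_of_injective]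
          rintro ⟨x, y⟩ ⟨x', y'⟩ h
          obtain ⟨h5, h6⟩ := qv_inj hij hki.symm hkj.symm hk (Φ.symm.injective h)
          exact Prod.ext h5 h6
      _ ≤ _ := Set.ncard_le_ncard h4 (Set.toFinite _)
  have hPk : P F k ∉ lineSet F i j := by
    intro h
    have h2 := h k hik.symm hjk.symm
    obtain ⟨c, hc⟩ := Projectivization.exists_smul_eq_mk_rep F (Pi.single k 1 : ι → F) (single_ne k)
    have h3 := congrFun hc k
    rw [Pi.smul_apply, Pi.single_eq_same] at h3
    have h4 : (P F k).rep k = c • (1 : F) := h3.symm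
    rw [h4] at h2
    have : (c : F) = 0 := by simpa [Units.smul_def] using h2
    exact c.ne_zero this
  -- the third point of the line
  set c := Φ.symm (L hij (1 : F)) with hc
  have hca : c ≠ a := fun h => hLne i (Or.inl rfl) (Φ.symm.injective h)
  have hcb : c ≠ b := fun h => hLne j (Or.inr rfl) (Φ.symm.injective h)
  have hda : Φ.symm (P F k) ≠ a := fun h => hPne hik.symm (Φ.symm.injective h)
  have hdb : Φ.symm (P F k) ≠ b := fun h => hPne hjk.symm (Φ.symm.injective h)
  have hm1 := H.orb a b c hab hca hcb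
  have hm2 := H.orb a b _ hab hda hdb
  have hm3 : Fintype.card F * Fintype.card F ≤ m := by
    rw [← hm2]
    refine (hge _ hPk).trans ?_
    rw [Nat.card_coe_set_eq, Nat.card_coe_set_eq]
    apply Set.ncard_le_ncard _ (Set.toFinite _)
    rintro _ ⟨g, rfl⟩
    obtain ⟨g, hg⟩ := g
    rw [mem_TT] at hg
    exact ⟨⟨g, mem_GG.2 ⟨hg.2.1, hg.2.2⟩⟩, rfl⟩
  -- the orbit of `c` under `T_ab` stays on the line
  have hcl : Nat.card (orbit (TT T a b) c) ≤ Fintype.card F := by
    have h4 : orbit (TT T a b) c ⊆ (fun x : F => Φ.symm (L hij x)) '' Set.univ := by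
      rintro _ ⟨g, rfl⟩
      obtain ⟨g, hg⟩ := g
      rw [mem_TT] at hg
      obtain ⟨hgT, hga, hgb⟩ := hg
      obtain ⟨M, hM⟩ := QuotientGroup.mk_surjective (e ⟨g, hgT⟩)
      have hg' : (⟨g, hgT⟩ : T) = e.symm (QuotientGroup.mk M) := by rw [hM, e.symm_apply_apply]
      have h5 : M • P F i = P F i := by
        apply Φ.symm.injective
        rw [← hlift, ← hg']
        exact hga
      have h6 : M • P F j = P F j := by
        apply Φ.symm.injective
        rw [← hlift, ← hg']
        exact hgb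
      obtain ⟨y, hy⟩ := line_smul hij h5 h6 1
      refine ⟨y, trivial, ?_⟩
      show Φ.symm (L hij y) = (⟨g, hgT⟩ : T) • Φ.symm (L hij 1)
      rw [hg', hlift, hy]
    rw [Nat.card_coe_set_eq]
    calc _ ≤ _ := Set.ncard_le_ncard h4 (Set.toFinite _)
      _ ≤ (Set.univ : Set F).ncard := Set.ncard_image_le (Set.toFinite _)
      _ = Fintype.card F := by rw [Set.ncard_univ, Nat.card_eq_fintype_card]
  -- the orbit of `c` under `G_ab` stays on the line
  have hm4 : m ≤ Fintype.card F + 1 := by
    rw [← hm1]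
    have h4 : orbit (GG G a b) c ⊆ Φ.symm '' lineSet F i j := by
      rintro _ ⟨g, rfl⟩
      obtain ⟨g, hg⟩ := g
      rw [mem_GG] at hg
      refine ⟨Φ (g • c), ?_, Φ.symm_apply_apply _⟩
      by_contra hcon
      have h5 := hge _ hcon
      rw [Φ.symm_apply_apply, card_orbit_smul (fun n => TT_conj A.normal hg.1 hg.2 n)] at h5
      nlinarith
    rw [Nat.card_coe_set_eq]
    calc _ ≤ _ := Set.ncard_le_ncard h4 (Set.toFinite _)
      _ ≤ _ := Set.ncard_image_le (Set.toFinite _)
      _ ≤ _ := card_lineSet hij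
  nlinarith

/-- **The row `PSL_d(q)`, `d ≥ 3`.** -/
theorem psl (A : AS G Ω T) (H : Half G Ω m) {F : Type} [Field F] [Fintype F] {d : ℕ} (hd : 3 ≤ d)
    (e : Nonempty (T ≃* ProjectiveSpecialLinearGroup (Fin d) F))
    (hn : Nat.card Ω * (Fintype.card F - 1) = Fintype.card F ^ d - 1) : IsMultiplyPretransitive G Ω 3 := by
  exfalso
  obtain ⟨e⟩ := e
  obtain ⟨r, hch⟩ := CharP.exists F
  obtain ⟨-, hr, -⟩ := FiniteField.card F r
  have := Fact.mk hr
  obtain ⟨k, rfl⟩ : ∃ k, d = k + 1 + 1 + 1 := ⟨d - 3, by omega⟩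
  obtain ⟨e', Φ, hΦ⟩ := Cfsg.Agent.H410.ASLie.psl_equiv (m := k + 1) A e
    (char_not_dvd (d := k + 1 + 1 + 1) hr (by omega) hn)
  refine not_psl_half A H (i := (0 : Fin (k + 1 + 1 + 1))) (j := 1) (k := ⟨2, by omega⟩) ?_ ?_ ?_ e' Φ hΦ
  · intro h
    have := congrArg Fin.val h
    simp at this
  · intro h
    have := congrArg Fin.val h
    simp at this
  · intro h
    have := congrArg Fin.val h
    simp at this

end Cfsg.Agent.H386.HalfTwo
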