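import Cfsg.Agent.H386.HalfTwo.Affine
import Cfsg.Agent.H386.HalfTwo.Psl
import Cfsg.Agent.H621.Half.Psu
import Cfsg.Agent.H621.Half.Sz
import Cfsg.Agent.H60.HalfPsl
import Cfsg.Agent.H392.HalfSp
import Cfsg.Agent.H528.HalfRee
import Cfsg.Agent.H868.HalfM11
import Cfsg.Agent.H344.HalfM22
import Cfsg.Agent.H436.HalfHS
import Cfsg.Agent.H970.HalfSpor
import Cfsg.Agent.S0243
import Cfsg.Agent.S1059
import Cfsg.Agent.S1163
import Cfsg.Agent.HKS.EndOrd

/-!
# `(2+1/2)`-transitive groups: the main theorem, from the list of the 2-transitive groups and the transitive linear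
groups (helper386)
-/

set_option autoImplicit false
set_option linter.unusedSectionVars false

namespace Cfsg.Agent.H386.HalfTwo

open MulAction Cfsg.Agent.H392.MultTrans Cfsg.Agent.H384.TwoTrans Cfsg.Agent.H50.Her

universe u v

variable {G : Type u} {Ω : Type v} [Group G] [MulAction G Ω] {T : Subgroup G} {m : ℕ}

/-- `T` has index two in the symmetric group -/
theorem three_of_card (A : AS G Ω T) (hT : Nat.card T * 2 = (Nat.card Ω).factorial) :
    IsMultiplyPretransitive G Ω 3 := by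
  classical
  have := A.finG
  have := A.finΩ
  have := A.faithful
  have h5 := A.five_le
  have : Fintype Ω := Fintype.ofFinite Ω
  have hnt : Nontrivial Ω := Finite.one_lt_card_iff_nontrivial.1 (by omega)
  have hft : FaithfulSMul T Ω := A.faithfulT
  have hcard : Nat.card (toPermHom T Ω).range = Nat.card T :=
    (Nat.card_congr (MonoidHom.ofInjective MulAction.toPerm_injective).toEquiv).symm
  have hidx : (toPermHom T Ω).range.index = 2 := by
    have h1 := (toPermHom T Ω).range.index_mul_card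
    rw [hcard, Nat.card_perm, ← hT, mul_comm] at h1
    exact Nat.eq_of_mul_eq_mul_left Nat.card_pos h1
  have h1 := of_range_alt (G := T) (Ω := Ω) (m := 3) (by omega) (Equiv.Perm.eq_alternatingGroup_of_index_eq_two hidx)
  refine ⟨fun s t => ?_⟩
  obtain ⟨g, hg⟩ := exists_smul_eq T s t
  refine ⟨(g : G), ?_⟩
  ext i
  exact DFunLike.congr_fun hg i

theorem card_psl_four {F : Type*} [Field F] [Fintype F] (hF : Fintype.card F = 2) :
    Nat.card (Matrix.ProjectiveSpecialLinearGroup (Fin 4) F) = 20160 := by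
  have h := Cfsg.Agent.S0243.result hF 4 (by norm_num)
  norm_num [Fin.prod_univ_succ] at h
  exact h

theorem card_psl_two {F : Type*} [Field F] [Fintype F] {q : ℕ} (hF : Fintype.card F = q) :
    Nat.gcd 2 (q - 1) * ((q - 1) * Nat.card (Matrix.ProjectiveSpecialLinearGroup (Fin 2) F)) =
      (q ^ 2 - 1) * (q ^ 2 - q) := by
  have h := Cfsg.Agent.S0243.result hF 2 (by norm_num)
  rw [h]
  simp [Fin.prod_univ_two]

theorem card_alt {n : ℕ} (hn : 2 ≤ n) : Nat.card (alternatingGroup (Fin n)) * 2 = n.factorial := by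
  have : Nontrivial (Fin n) := Fin.nontrivial_iff_two_le.2 hn
  rw [Nat.card_eq_fintype_card, mul_comm, two_mul_card_alternatingGroup, Fintype.card_perm, Fintype.card_fin]

theorem card_psu_three (E : Type) [Field E] [Fintype E] (hE : Fintype.card E = 9) : Nat.card (Cfsg.PSU 3 E 3) = 6048 := by
  have h := Cfsg.Agent.HKS.EndOrd.card_psu_three (F := E) (t := 2) hE
  norm_num at h
  exact h

/-- the two infinite families -/
def Fam (G : Type u) (Ω : Type v) [Group G] : Prop :=
  (∃ (F : Type) (_ : Field F) (_ : Fintype F), 4 ≤ Fintype.card F ∧ Nat.card Ω = Fintype.card F + 1 ∧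
      ∃ N : Subgroup G, N.Normal ∧ Nonempty (↥N ≃* Matrix.ProjectiveSpecialLinearGroup (Fin 2) F)) ∨
    (∃ m : ℕ, 1 ≤ m ∧ IsSimpleGroup G ∧
      Nat.card G = (2 ^ (2 * m + 1)) ^ 2 * ((2 ^ (2 * m + 1)) ^ 2 + 1) * (2 ^ (2 * m + 1) - 1) ∧
      Nat.card Ω = (2 ^ (2 * m + 1)) ^ 2 + 1)

/-- **The almost simple case.** -/
theorem almost (A : AS G Ω T) (hK : Known2 T (Nat.card Ω)) (H : Half G Ω m) :
    m = 1 ∨ IsMultiplyPretransitive G Ω 3 ∨ Fam G Ω := by
  have := A.finG
  have := A.finΩ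
  have := A.faithful
  have := A.finT
  have := A.simple
  have hnt := A.nontrivialΩ
  have h5 := A.five_le
  have hdvd := H.dvd
  generalize hn : Nat.card Ω = n at hK
  cases hK with
  | alt n hn5 e =>
    right; left
    obtain ⟨e⟩ := e
    refine three_of_card A ?_
    rw [Nat.card_congr e.toEquiv, card_alt (by omega), hn]
  | psl F d n hd hd2 e hn' =>
    rcases Nat.lt_or_ge 2 d with h | h
    · exact Or.inr (Or.inl (psl A H h e (by rw [hn]; exact hn')))
    · obtain rfl : d = 2 := by omega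
      right; right; left
      refine ⟨F, inferInstance, inferInstance, hd2 rfl, ?_, T, A.normal, e⟩
      rw [hn]
      obtain ⟨k, hk⟩ : ∃ k, Fintype.card F = k + 1 := ⟨Fintype.card F - 1, by
        have : 1 < Fintype.card F := Fintype.one_lt_card
        omega⟩
      have h4 := hd2 rfl
      rw [hk] at hn' h4 ⊢
      have h6 : (k + 1) ^ 2 - 1 = (k + 1 + 1) * k := by
        have : (k + 1) ^ 2 = (k + 1 + 1) * k + 1 := by ring
        omega
      rw [h6, Nat.add_sub_cancel] at hn'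
      exact Nat.eq_of_mul_eq_mul_right (by omega) hn'
  | sp F k n hF hm e hn' =>
    rcases Cfsg.Agent.H392.HalfSp.sp A H hF hm e (by rwa [hn]) with h | h
    · exact Or.inl h
    · exact Or.inr (Or.inl h)
  | psu F q n hq hF e hn' => exact (Cfsg.Agent.H621.HalfT.psu A H hq hF e (by rwa [hn])).elim
  | sz F k n hm hF e hn' =>
    rcases Cfsg.Agent.H621.HalfT.sz A H hm hF e (by rw [hn, hn']) with h | h
    · right; right; right
      have e' : T ≃* G := (MulEquiv.subgroupCongr h).trans Subgroup.topEquiv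
      refine ⟨k, hm, e'.symm.isSimpleGroup, ?_, ?_⟩
      · obtain ⟨e⟩ := e
        rw [← Nat.card_congr e'.toEquiv, Nat.card_congr e.toEquiv, (Cfsg.Agent.S1163.result hm hF).1]
        ring
      · rw [hn, hn', hF]
    · exact Or.inl h
  | ree K k n hm hK e hn' => exact (Cfsg.Agent.H528.HalfRee.ree A H hm hK e (by rwa [hn])).elim
  | psl2_8 F hF e =>
    rcases Cfsg.Agent.H60.HalfPsl.psl2_8 A H hF e hn with h | h
    · exact Or.inl h
    · exact Or.inr (Or.inl h)
  | psl2_9 F hF e =>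
    right; left
    obtain ⟨e⟩ := e
    refine three_of_card A ?_
    rw [Nat.card_congr e.toEquiv, hn]
    have h := card_psl_two hF
    norm_num [Nat.factorial] at h ⊢
    omega
  | psl2_11 F hF e =>
    rcases Cfsg.Agent.H60.HalfPsl.psl2_11 A H hF e hn with h | h
    · exact Or.inl h
    · exact Or.inr (Or.inl h)
  | psl4_2 F hF e =>
    right; left
    obtain ⟨e⟩ := e
    refine three_of_card A ?_
    rw [Nat.card_congr e.toEquiv, hn, card_psl_four hF]
    norm_num [Nat.factorial]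
  | a7 e =>
    rw [hn] at hdvd
    rcases (Nat.dvd_prime (by norm_num : Nat.Prime (15 - 2))).1 hdvd with h | h
    · exact Or.inl h
    · right; left
      exact H.three_of_lt (by omega) A.two (by rw [hn, h]; norm_num)
  | m11 h =>
    rcases Cfsg.Agent.H868.HalfM11.m11 A H h hn with h | h
    · exact Or.inl h
    · exact Or.inr (Or.inl h)
  | m11' h =>
    rcases Cfsg.Agent.H868.HalfM11.m11' A H h hn with h | h
    · exact Or.inl h
    · exact Or.inr (Or.inl h)
  | m12 h =>
    rcases Cfsg.Agent.H970.HalfSpor.m12 A H h hn with h | h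
    · exact Or.inl h
    · exact Or.inr (Or.inl h)
  | m22 h =>
    rcases Cfsg.Agent.H344.HalfM22.m22 A H h hn with h | h
    · exact Or.inl h
    · exact Or.inr (Or.inl h)
  | m23 h => exact Or.inr (Or.inl (Cfsg.Agent.H970.HalfSpor.m23 A H h hn))
  | m24 h => exact Or.inr (Or.inl (Cfsg.Agent.H970.HalfSpor.m24 A H h hn))
  | hs h => exact Or.inl (Cfsg.Agent.H436.HalfHS.hs A H h hn)
  | co3 h => exact Or.inl (Cfsg.Agent.H970.HalfSpor.co3 A H h hn)

/-- **`(2+1/2)`-transitive groups** -/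
theorem main [Finite G] [FaithfulSMul G Ω] [Finite Ω] (hn : 3 ≤ Nat.card Ω) (htrans : IsMultiplyPretransitive G Ω 2)
    (hhalf : ∀ s : Fin 2 ↪ Ω, ∀ b c : Ω, b ∉ Set.range s → c ∉ Set.range s →
      Nat.card (MulAction.orbit (↥(⨅ i, MulAction.stabilizer G (s i))) b) =
        Nat.card (MulAction.orbit (↥(⨅ i, MulAction.stabilizer G (s i))) c))
    (hK : ∀ T : Subgroup G, AS G Ω T → Known2 T (Nat.card Ω))
    (hM : ∀ (V : Type u) [AddCommGroup V] [Module (ZMod 2) V] [Finite V] [Nontrivial V]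
      (G : Subgroup (V ≃ₗ[ZMod 2] V)), (∀ v w : V, v ≠ 0 → w ≠ 0 → ∃ g ∈ G, g v = w) →
      MainOut G (⊥ : Subgroup (V ≃ₗ[ZMod 2] V))) :
    IsMultiplyPretransitive G Ω 3 ∨
    (∀ s : Fin 2 ↪ Ω, (⨅ i, MulAction.stabilizer G (s i)) = ⊥) ∨
    (∃ (F : Type) (_ : Field F) (_ : Fintype F), 4 ≤ Fintype.card F ∧ Nat.card Ω = Fintype.card F + 1 ∧
      ∃ N : Subgroup G, N.Normal ∧ Nonempty (↥N ≃* Matrix.ProjectiveSpecialLinearGroup (Fin 2) F)) ∨
    (∃ m : ℕ, 1 ≤ m ∧ IsSimpleGroup G ∧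
      Nat.card G = (2 ^ (2 * m + 1)) ^ 2 * ((2 ^ (2 * m + 1)) ^ 2 + 1) * (2 ^ (2 * m + 1) - 1) ∧
      Nat.card Ω = (2 ^ (2 * m + 1)) ^ 2 + 1) ∨
    (∃ p : ℕ, p.Prime ∧ Nat.card Ω = 2 ^ p ∧ Nat.card G = 2 ^ p * (2 ^ p - 1) * p ∧
      ∃ N : Subgroup G, N.Normal ∧ Cfsg.IsElementaryAbelian 2 N ∧
        MulAction.IsPretransitive ↥N Ω ∧ ∀ a : Ω, MulAction.stabilizer ↥N a = ⊥) := by
  obtain ⟨m, H⟩ := exists_half hn htrans hhalf
  rcases reduction htrans hn with ⟨N, hN, hN1, hNc, ⟨p, hp, hexp⟩, htr, hsr⟩ | ⟨T, A⟩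
  · by_cases hp2 : p = 2
    · subst hp2
      have hc : ∀ x ∈ N, ∀ y ∈ N, x * y = y * x := fun x hx y hy =>
        congrArg Subtype.val (hNc.is_comm.comm (⟨x, hx⟩ : N) ⟨y, hy⟩)
      rcases affine_two htrans hn H hN hc hexp htr hsr (fun F _ _ => Cfsg.Agent.S1059.result rfl)
        (fun E _ _ hE => card_psu_three E hE) hM with h | h | ⟨p, hp, h1, h2⟩
      · exact Or.inr (Or.inl (H.concl_of_one h))
      · exact Or.inl h
      · refine Or.inr (Or.inr (Or.inr (Or.inr ⟨p, hp, h1, h2, N, hN, ?_, ?_, ?_⟩)))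
        · exact ⟨hNc, hexp⟩
        · exact ⟨fun x y => by
            obtain ⟨n, hn, h⟩ := htr x y
            exact ⟨⟨n, hn⟩, h⟩⟩
        · intro a
          rw [eq_bot_iff]
          rintro ⟨n, hn⟩ h
          rw [Subgroup.mem_bot]
          exact Subtype.ext (hsr a n hn h)
    · exact Or.inr (Or.inl (H.concl_of_one (affine_odd hn H hN hN1 hp hp2 hexp hsr)))
  · rcases almost A (hK T A) H with h | h | h | h
    · exact Or.inr (Or.inl (H.concl_of_one h))
    · exact Or.inl h
    · exact Or.inr (Or.inr (Or.inl h))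
    · exact Or.inr (Or.inr (Or.inr (Or.inl h)))

end Cfsg.Agent.H386.HalfTwo
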