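import Cfsg.Agent.H386.HalfTwo.Lin

/-!
# `(2+1/2)`-transitive affine groups in characteristic two: `SL`, `Sp`, `G₂` (helper386)
-/

set_option autoImplicit false
set_option linter.unusedSectionVars false

namespace Cfsg.Agent.H386.HalfTwo

open Module MulAction Cfsg.Agent.H50.Her

universe u

variable {V : Type u} [AddCommGroup V] [Module (ZMod 2) V] [Finite V] [Nontrivial V]
variable {G L : Subgroup (V ≃ₗ[ZMod 2] V)} {m : ℕ}

/-- `G` is semilinear over `F = End_L(V)` -/
theorem exists_scalar {F : Type*} [Field F] [Module F V] (hnor : Nor G L)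
    (hc : ∀ g ∈ L, ∀ (c : F) (v : V), g (c • v) = c • g v)
    (hend : ∀ f : V →ₗ[ZMod 2] V, (∀ g ∈ L, ∀ v, f (g v) = g (f v)) → ∃ c : F, ∀ v, f v = c • v)
    {g : V ≃ₗ[ZMod 2] V} (hg : g ∈ G) (c : F) : ∃ c' : F, ∀ x : V, g (c • x) = c' • g x := by
  let f0 : V →+ V :=
    { toFun := fun x => g (c • g⁻¹ x)
      map_zero' := by rw [map_zero, smul_zero, map_zero]
      map_add' := fun x y => by rw [map_add, smul_add, map_add] }
  let f : V →ₗ[ZMod 2] V := f0.toZModLinearMap 2
  have hf : ∀ x, f x = g (c • g⁻¹ x) := fun x => rfl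
  obtain ⟨c', hc'⟩ := hend f (by
    intro h hh v
    rw [hf, hf]
    have h1 : g⁻¹ * h * g ∈ L := by
      have := hnor g⁻¹ (G.inv_mem hg) h hh
      rwa [inv_inv] at this
    have h2 : g⁻¹ (h v) = (g⁻¹ * h * g) (g⁻¹ v) := by
      show g⁻¹ (h v) = g⁻¹ (h (g (g⁻¹ v)))
      rw [show g (g⁻¹ v) = v from g.apply_symm_apply v]
    rw [h2, ← hc _ h1]
    show g (g⁻¹ (h (g (c • g⁻¹ v)))) = h (g (c • g⁻¹ v))
    exact g.apply_symm_apply _)
  refine ⟨c', fun x => ?_⟩
  have h1 := hc' (g x)
  rw [hf, show g⁻¹ (g x) = x from g.symm_apply_apply x] at h1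
  exact h1

/-- there are at most `|F| - 2` points in the orbits on the line -/
theorem LH.le_card (H : LH G m) {F : Type*} [Field F] [Fintype F] [Module F V] (hF : 3 ≤ Fintype.card F)
    (hsc : ∀ g ∈ G, ∀ c : F, ∃ c' : F, ∀ x : V, g (c • x) = c' • g x) : m + 2 ≤ Fintype.card F := by
  classical
  obtain ⟨v, hv⟩ := exists_ne (0 : V)
  obtain ⟨c, hc0, hc1⟩ : ∃ c : F, c ≠ 0 ∧ c ≠ 1 := by
    by_contra hcon
    push Not at hcon
    have h7 : (Finset.univ : Finset F) ⊆ {0, 1} := by
      intro x _
      by_cases hx : x = 0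
      · simp [hx]
      · simp [hcon x hx]
    have h8 := Finset.card_le_card h7
    rw [Finset.card_univ, Finset.card_pair zero_ne_one] at h8
    omega
  have h1 := H.orb v (c • v) hv (smul_ne_zero hc0 hv) (by
    intro h
    apply hc1
    have : (c - 1) • v = 0 := by rw [sub_smul, h, one_smul, sub_self]
    rcases smul_eq_zero.1 this with h | h
    · exact sub_eq_zero.1 h
    · exact absurd h hv)
  have h2 : orbit (St G v) (c • v) ⊆ (fun c : F => c • v) '' ((Finset.univ.erase 0).erase 1 : Finset F) := by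
    intro x hx
    obtain ⟨g, hg, hgv, rfl⟩ := mem_orbit_St.1 hx
    obtain ⟨c', hc'⟩ := hsc g hg c
    have h3 := hc' v
    rw [hgv] at h3
    refine ⟨c', ?_, h3.symm⟩
    rw [Finset.mem_coe, Finset.mem_erase, Finset.mem_erase]
    refine ⟨?_, ?_, Finset.mem_univ _⟩
    · rintro rfl
      rw [one_smul] at h3
      have : g (c • v) = g v := by rw [h3, hgv]
      have h4 := g.injective this
      apply hc1
      have : (c - 1) • v = 0 := by rw [sub_smul, h4, one_smul, sub_self]
      rcases smul_eq_zero.1 this with h | h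
      · exact sub_eq_zero.1 h
      · exact absurd h hv
    · rintro rfl
      rw [zero_smul] at h3
      have h4 := (map_eq_zero_iff g g.injective).1 h3
      exact smul_ne_zero hc0 hv h4
  rw [Nat.card_coe_set_eq] at h1
  have h3 := Set.ncard_le_ncard h2 (Set.toFinite _)
  have h4 := Set.ncard_image_le (f := fun c : F => c • v) (s := (((Finset.univ.erase 0).erase 1 : Finset F) : Set F))
    (Set.toFinite _)
  rw [Set.ncard_coe_finset, Finset.card_erase_of_mem (by simp), Finset.card_erase_of_mem (by simp),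
    Finset.card_univ] at h4
  omega

/-- the orbit contains a full line -/
theorem LH.card_le (H : LH G m) {F : Type*} [Field F] [Fintype F] [Module F V] {v w : V} (hv : v ≠ 0) (hw : w ≠ 0)
    (hwv : w ≠ v) (h : ∀ c : F, ∃ g ∈ G, g v = v ∧ g w = w + c • v) : Fintype.card F ≤ m := by
  classical
  rw [← H.orb v w hv hw hwv, Nat.card_coe_set_eq]
  have h2 : (fun c : F => w + c • v) '' Set.univ ⊆ orbit (St G v) w := by
    rintro _ ⟨c, -, rfl⟩
    obtain ⟨g, hg, h1, h2⟩ := h c
    exact mem_orbit_St.2 ⟨g, hg, h1, h2⟩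
  have h3 := Set.ncard_le_ncard h2 (Set.toFinite _)
  rw [Set.ncard_image_of_injective, Set.ncard_univ, Nat.card_eq_fintype_card] at h3
  · exact h3
  · intro a b hab
    have h1 : a • v = b • v := add_left_cancel hab
    have : (a - b) • v = 0 := by rw [sub_smul, h1, sub_self]
    rcases smul_eq_zero.1 this with h | h
    · exact sub_eq_zero.1 h
    · exact absurd h hv

/-- the transvections of a symplectic space are isometries -/
theorem symp_tr {F : Type*} [Field F] [Module F V] {f : LinearMap.BilinForm F V} (hf : f.IsAlt) (v : V) (c : F)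
    (h : (c • f v) v = 0) (x y : V) :
    f (LinearEquiv.transvection h x) (LinearEquiv.transvection h y) = f x y := by
  rw [LinearEquiv.transvection.apply, LinearEquiv.transvection.apply]
  have h1 : f x v = - f v x := (LinearMap.BilinForm.IsAlt.neg_eq hf v x).symm
  simp only [map_add, map_smul, LinearMap.add_apply, LinearMap.smul_apply, smul_eq_mul, hf v, mul_zero, add_zero]
  rw [h1]
  ring

/-- **the natural groups over `F`, `|F| ≥ 4`** do not occur -/
theorem LH.nat_big (H : LH G m) (hle : L ≤ G) (hnor : Nor G L) {F : Type} [Field F] [Fintype F] [Module F V]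
    (hfr : 2 ≤ finrank F V) (hF : 3 ≤ Fintype.card F)
    (hc : ∀ g ∈ L, ∀ (c : F) (v : V), g (c • v) = c • g v)
    (hend : ∀ f : V →ₗ[ZMod 2] V, (∀ g ∈ L, ∀ v, f (g v) = g (f v)) → ∃ c : F, ∀ v, f v = c • v)
    (hG2 : Nat.card (Cfsg.Lie.chevG2.group F) = Fintype.card F ^ 6 * (Fintype.card F ^ 2 - 1) * (Fintype.card F ^ 6 - 1))
    (hact : (∀ g : V ≃ₗ[F] V, LinearEquiv.det g = 1 ↔ ∃ h ∈ L, ∀ v, h v = g v) ∨
      (∃ f : LinearMap.BilinForm F V, f.IsAlt ∧ f.Nondegenerate ∧
        ∀ g : V ≃ₗ[F] V, (∀ u v, f (g u) (g v) = f u v) ↔ ∃ h ∈ L, ∀ v, h v = g v) ∨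
      (finrank F V = 6 ∧ Nonempty (L ≃* Cfsg.Lie.chevG2.group F))) : False := by
  classical
  have hfgl := finite_gl (V := V)
  have hup := H.le_card hF (fun g hg c => exists_scalar hnor hc hend hg c)
  have hfd : FiniteDimensional F V := Module.finite_of_finrank_pos (by omega)
  obtain ⟨v, hv⟩ := exists_ne (0 : V)
  rcases hact with h | ⟨f, hfa, hfn, h⟩ | ⟨h6, ⟨e⟩⟩
  · -- SL
    obtain ⟨w, hw⟩ : ∃ w, w ∉ Submodule.span F {v} := by
      by_contra hcon
      push Not at hcon
      have h1 : Submodule.span F {v} = ⊤ := by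
        rw [eq_top_iff]
        exact fun x _ => hcon x
      have h2 := finrank_span_singleton (K := F) hv
      rw [h1, finrank_top] at h2
      omega
    obtain ⟨φ, hφw, hφ⟩ := Submodule.exists_dual_map_eq_bot_of_notMem hw inferInstance
    have hφv : φ v = 0 := by
      have h1 : φ v ∈ (Submodule.span F {v}).map φ := ⟨v, Submodule.mem_span_singleton_self v, rfl⟩
      rw [hφ] at h1
      exact (Submodule.mem_bot F).1 h1
    have hw0 : w ≠ 0 := by
      rintro rfl
      exact hw (zero_mem _)
    have hwv : w ≠ v := by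
      rintro rfl
      exact hw (Submodule.mem_span_singleton_self w)
    have h1 := H.card_le (F := F) hv hw0 hwv (by
      intro c
      have h2 : φ ((c * (φ w)⁻¹) • v) = 0 := by rw [map_smul, hφv, smul_zero]
      obtain ⟨g, hg, h3⟩ := (h (LinearEquiv.transvection h2)).1 (LinearEquiv.transvection.det_eq_one h2)
      refine ⟨g, hle hg, ?_, ?_⟩
      · rw [h3, LinearEquiv.transvection.apply, hφv, zero_smul, add_zero]
      · rw [h3, LinearEquiv.transvection.apply, smul_smul, mul_comm c, ← mul_assoc, mul_inv_cancel₀ hφw, one_mul])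
    omega
  · -- Sp
    obtain ⟨w, hw⟩ : ∃ w, f v w ≠ 0 := by
      by_contra hcon
      push Not at hcon
      exact hv (hfn.1 v hcon)
    have hw0 : w ≠ 0 := by
      rintro rfl
      exact hw (map_zero _)
    have hwv : w ≠ v := by
      rintro rfl
      exact hw (hfa w)
    have h1 := H.card_le (F := F) hv hw0 hwv (by
      intro c
      have h2 : ((c * (f v w)⁻¹) • f v) v = 0 := by rw [LinearMap.smul_apply, hfa v, smul_zero]
      obtain ⟨g, hg, h3⟩ := (h (LinearEquiv.transvection h2)).1 (symp_tr hfa v _ h2)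
      refine ⟨g, hle hg, ?_, ?_⟩
      · rw [h3, LinearEquiv.transvection.apply, h2, zero_smul, add_zero]
      · rw [h3, LinearEquiv.transvection.apply, LinearMap.smul_apply, smul_eq_mul, mul_assoc, inv_mul_cancel₀ hw,
          mul_one])
    omega
  · -- G2
    have hb := Module.finBasisOfFinrankEq F V h6
    set q := Fintype.card F with hq
    -- upper bound for `|L_v|`
    have h1 : Nat.card (St L v) ≤ m ^ 6 := by
      have hm1 : 1 ≤ m := by
        obtain ⟨c, hc0, hc1⟩ : ∃ c : F, c ≠ 0 ∧ c ≠ 1 := by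
          by_contra hcon
          push Not at hcon
          have h7 : (Finset.univ : Finset F) ⊆ {0, 1} := by
            intro x _
            by_cases hx : x = 0
            · simp [hx]
            · simp [hcon x hx]
          have h8 := Finset.card_le_card h7
          rw [Finset.card_univ, Finset.card_pair zero_ne_one] at h8
          omega
        have h1 := H.orb v (c • v) hv (smul_ne_zero hc0 hv) (by
          intro h
          apply hc1
          have : (c - 1) • v = 0 := by rw [sub_smul, h, one_smul, sub_self]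
          rcases smul_eq_zero.1 this with h | h
          · exact sub_eq_zero.1 h
          · exact absurd h hv)
        rw [← h1]
        exact Nat.card_pos_iff.2 ⟨⟨⟨_, mem_orbit_self _⟩⟩, inferInstance⟩
      have h2 : ∀ i : Fin 6, Nat.card (orbit (St G v) (hb i)) ≤ m := by
        intro i
        by_cases h3 : hb i = v
        · rw [h3]
          have : orbit (St G v) v = {v} := by
            ext x
            rw [mem_orbit_St]
            constructor
            · rintro ⟨g, _, h4, rfl⟩
              exact h4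
            · rintro rfl
              exact ⟨1, one_mem _, rfl, rfl⟩
          rw [this]
          simpa using hm1
        · exact (H.orb v _ hv (hb.ne_zero i) h3).le
      have h3 : Nat.card (St L v) ≤ Nat.card (∀ i : Fin 6, orbit (St G v) (hb i)) := by
        refine Nat.card_le_card_of_injective (fun g : St L v => fun i =>
          (⟨(g : V ≃ₗ[ZMod 2] V) (hb i), ⟨⟨g, mem_St.2 ⟨hle (mem_St.1 g.2).1, (mem_St.1 g.2).2⟩⟩, rfl⟩⟩ :
            orbit (St G v) (hb i))) ?_
        intro g h hgh
        apply Subtype.ext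
        have h4 : ∀ i, (g : V ≃ₗ[ZMod 2] V) (hb i) = (h : V ≃ₗ[ZMod 2] V) (hb i) := fun i =>
          congrArg Subtype.val (congrFun hgh i)
        ext x
        rw [← hb.sum_repr x, map_sum, map_sum]
        refine Finset.sum_congr rfl fun i _ => ?_
        rw [hc _ (mem_St.1 g.2).1, hc _ (mem_St.1 h.2).1, h4]
      refine h3.trans ?_
      rw [Nat.card_pi]
      calc ∏ i : Fin 6, Nat.card (orbit (St G v) (hb i)) ≤ ∏ _i : Fin 6, m :=
            Finset.prod_le_prod (fun _ _ => Nat.zero_le _) (fun i _ => h2 i)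
        _ = m ^ 6 := by simp
    -- lower bound
    have h2 : Nat.card L ≤ (Nat.card V - 1) * Nat.card (St L v) := by
      have h1 : Nat.card (orbit L v) * Nat.card (stabilizer L v) = Nat.card L := by
        rw [← Nat.card_prod]
        exact Nat.card_congr (orbitProdStabilizerEquivGroup L v)
      have h2 : orbit L v ⊆ {x : V | x ≠ 0} := by
        rintro _ ⟨g, rfl⟩
        show (g : V ≃ₗ[ZMod 2] V) v ≠ 0
        exact fun h => hv ((map_eq_zero_iff (g : V ≃ₗ[ZMod 2] V) (g : V ≃ₗ[ZMod 2] V).injective).1 h)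
      have h3 : Nat.card (stabilizer L v) = Nat.card (St L v) := by
        refine Nat.card_congr
          { toFun := fun g => ⟨g.1.1, mem_St.2 ⟨g.1.2, g.2⟩⟩
            invFun := fun g => ⟨⟨g.1, (mem_St.1 g.2).1⟩, (mem_St.1 g.2).2⟩
            left_inv := fun _ => rfl
            right_inv := fun _ => rfl }
      rw [← h1, h3, Nat.card_coe_set_eq]
      refine Nat.mul_le_mul_right _ ?_
      rw [← ncard_compl_zero]
      exact Set.ncard_le_ncard h2 (Set.toFinite _)
    have h3 : Nat.card V = q ^ 6 := by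
      rw [Module.natCard_eq_pow_finrank (K := F), h6, Nat.card_eq_fintype_card]
    rw [Nat.card_congr e.toEquiv, hG2, h3] at h2
    have h4 : q ^ 6 * (q ^ 2 - 1) ≤ Nat.card (St L v) := by
      have h5 : 0 < q ^ 6 - 1 := by
        have : 1 < q ^ 6 := Nat.one_lt_pow (by norm_num) (by omega)
        omega
      refine Nat.le_of_mul_le_mul_left ?_ h5
      calc (q ^ 6 - 1) * (q ^ 6 * (q ^ 2 - 1)) = q ^ 6 * (q ^ 2 - 1) * (q ^ 6 - 1) := by ring
        _ ≤ _ := h2
    have h5 : m ^ 6 < q ^ 6 := Nat.pow_lt_pow_left (by omega) (by norm_num)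
    have h6' : q ^ 6 ≤ q ^ 6 * (q ^ 2 - 1) := by
      refine Nat.le_mul_of_pos_right _ ?_
      have : 1 < q ^ 2 := Nat.one_lt_pow (by norm_num) (by omega)
      omega
    omega

end Cfsg.Agent.H386.HalfTwo
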