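import Cfsg.Agent.H386.HalfTwo.LinSemi
import Cfsg.Agent.H386.HalfTwo.LinNat

/-!
# `(2+1/2)`-transitive affine groups in characteristic two: linear form, all cases (helper386)
-/

set_option autoImplicit false
set_option linter.unusedSectionVars false

namespace Cfsg.Agent.H386.HalfTwo

open Module MulAction Cfsg.Agent.H50.Her

universe u

variable {V : Type u} [AddCommGroup V] [Module (ZMod 2) V] [Finite V] [Nontrivial V]
variable {G L : Subgroup (V ≃ₗ[ZMod 2] V)} {m : ℕ}

theorem two_cases {F : Type*} [Field F] [Fintype F] (hF : Fintype.card F = 2) (a : F) : a = 0 ∨ a = 1 := by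
  classical
  by_contra hcon
  push Not at hcon
  have h1 : ({0, 1, a} : Finset F).card = 3 := by
    rw [Finset.card_eq_three]
    exact ⟨0, 1, a, zero_ne_one, hcon.1.symm, hcon.2.symm, rfl⟩
  have h2 := Finset.card_le_univ ({0, 1, a} : Finset F)
  omega

/-- **the natural groups over the field with two elements** -/
theorem LH.nat_two (H : LH G m) (hle : L ≤ G) {F : Type} [Field F] [Fintype F] [Module F V]
    (hfr : 2 ≤ finrank F V) (hF : Fintype.card F = 2)
    (hact : (∀ g : V ≃ₗ[F] V, LinearEquiv.det g = 1 ↔ ∃ h ∈ L, ∀ v, h v = g v) ∨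
      (∃ f : LinearMap.BilinForm F V, f.IsAlt ∧ f.Nondegenerate ∧
        ∀ g : V ≃ₗ[F] V, (∀ u v, f (g u) (g v) = f u v) ↔ ∃ h ∈ L, ∀ v, h v = g v)) : Nat.card V - 2 < 2 * m := by
  classical
  have hfd : FiniteDimensional F V := Module.finite_of_finrank_pos (by omega)
  have h2c := two_cases hF
  have hchar : (2 : F) = 0 := by
    rcases h2c 2 with h | h
    · exact h
    · exfalso
      have h1 : (1 : F) + 1 = 0 + 1 := by rw [one_add_one_eq_two, h, zero_add]
      exact one_ne_zero (add_right_cancel h1)
  have hVV : ∀ x : V, x + x = 0 := by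
    intro x
    rw [← two_smul F, hchar, zero_smul]
  have hVpos : 4 ≤ Nat.card V := by
    rw [Module.natCard_eq_pow_finrank (K := F), Nat.card_eq_fintype_card, hF]
    calc 4 = 2 ^ 2 := by norm_num
      _ ≤ _ := Nat.pow_le_pow_right (by norm_num) hfr
  obtain ⟨v, hv⟩ := exists_ne (0 : V)
  rcases hact with h | ⟨f, hfa, hfn, h⟩
  · -- SL
    obtain ⟨w, hw⟩ : ∃ w, w ∉ Submodule.span F {v} := by
      by_contra hcon
      push Not at hcon
      have h1 : Submodule.span F {v} = ⊤ := by
        rw [eq_top_iff]
        exact fun x _ => hcon x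
      have h2 := finrank_span_singleton (K := F) hv
      rw [h1, finrank_top] at h2
      omega
    have hw0 : w ≠ 0 := by
      rintro rfl
      exact hw (zero_mem _)
    have hwv : w ≠ v := by
      rintro rfl
      exact hw (Submodule.mem_span_singleton_self w)
    have hspan : ∀ x : V, x ≠ 0 → x ≠ v → x ∉ Submodule.span F {v} := by
      intro x hx0 hxv hx
      obtain ⟨c, rfl⟩ := Submodule.mem_span_singleton.1 hx
      rcases h2c c with rfl | rfl
      · exact hx0 (zero_smul _ _)
      · exact hxv (one_smul _ _)
    have h1 : {x : V | x ≠ 0 ∧ x ≠ v} ⊆ orbit (St G v) w := by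
      rintro x ⟨hx0, hxv⟩
      by_cases hxw : x = w
      · rw [hxw]; exact mem_orbit_self _
      -- a functional with `φ v = 0`, `φ w = φ x = 1`
      obtain ⟨φ, hφv, hφw, hφx⟩ : ∃ φ : Dual F V, φ v = 0 ∧ φ w = 1 ∧ φ x = 1 := by
        obtain ⟨φ1, h1w, h1⟩ := Submodule.exists_dual_map_eq_bot_of_notMem hw inferInstance
        obtain ⟨φ2, h2x, h2⟩ := Submodule.exists_dual_map_eq_bot_of_notMem (hspan x hx0 hxv) inferInstance
        have h1v : φ1 v = 0 := by
          have h1' : φ1 v ∈ (Submodule.span F {v}).map φ1 := ⟨v, Submodule.mem_span_singleton_self v, rfl⟩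
          rw [h1] at h1'
          exact (Submodule.mem_bot F).1 h1'
        have h2v : φ2 v = 0 := by
          have h1' : φ2 v ∈ (Submodule.span F {v}).map φ2 := ⟨v, Submodule.mem_span_singleton_self v, rfl⟩
          rw [h2] at h1'
          exact (Submodule.mem_bot F).1 h1'
        have h1w' : φ1 w = 1 := (h2c _).resolve_left h1w
        have h2x' : φ2 x = 1 := (h2c _).resolve_left h2x
        rcases h2c (φ1 x) with h3 | h3
        · rcases h2c (φ2 w) with h4 | h4
          · refine ⟨φ1 + φ2, ?_, ?_, ?_⟩
            · rw [LinearMap.add_apply, h1v, h2v, add_zero]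
            · rw [LinearMap.add_apply, h1w', h4, add_zero]
            · rw [LinearMap.add_apply, h3, h2x', zero_add]
          · exact ⟨φ2, h2v, h4, h2x'⟩
        · exact ⟨φ1, h1v, h1w', h3⟩
      have h3 : φ (w + x) = 0 := by
        rw [map_add, hφw, hφx, one_add_one_eq_two, hchar]
      obtain ⟨g, hg, h4⟩ := (h (LinearEquiv.transvection h3)).1 (LinearEquiv.transvection.det_eq_one h3)
      refine mem_orbit_St.2 ⟨g, hle hg, ?_, ?_⟩
      · rw [h4, LinearEquiv.transvection.apply, hφv, zero_smul, add_zero]
      · rw [h4, LinearEquiv.transvection.apply, hφw, one_smul, ← add_assoc, hVV, zero_add]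
    have h2 := Set.ncard_le_ncard h1 (Set.toFinite _)
    rw [ncard_compl hv, ← Nat.card_coe_set_eq (orbit (St G v) w), H.orb v w hv hw0 hwv] at h2
    omega
  · -- Sp
    obtain ⟨w, hw⟩ : ∃ w, f v w ≠ 0 := by
      by_contra hcon
      push Not at hcon
      exact hv (hfn.1 v hcon)
    have hw1 : f v w = 1 := (h2c _).resolve_left hw
    have hw0 : w ≠ 0 := by
      rintro rfl
      exact hw (map_zero _)
    have hwv : w ≠ v := by
      rintro rfl
      exact hw (hfa w)
    -- a step
    have hstep : ∀ x y : V, f v x = 1 → f v y = 1 → f x y = 1 → y ∈ orbit (St G v) x := by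
      intro x y hx hy hxy
      have h2 : ((1 : F) • f (x + y)) (x + y) = 0 := by rw [LinearMap.smul_apply, hfa, smul_zero]
      obtain ⟨g, hg, h3⟩ := (h (LinearEquiv.transvection h2)).1 (symp_tr hfa (x + y) _ h2)
      refine mem_orbit_St.2 ⟨g, hle hg, ?_, ?_⟩
      · rw [h3, LinearEquiv.transvection.apply, LinearMap.smul_apply, one_smul, map_add, LinearMap.add_apply]
        have h4 : f x v = - f v x := (LinearMap.BilinForm.IsAlt.neg_eq hfa v x).symm
        have h5 : f y v = - f v y := (LinearMap.BilinForm.IsAlt.neg_eq hfa v y).symm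
        rw [h4, h5, hx, hy, ← neg_add, one_add_one_eq_two, hchar, neg_zero, zero_smul, add_zero]
      · rw [h3, LinearEquiv.transvection.apply, LinearMap.smul_apply, one_smul, map_add, LinearMap.add_apply, hfa x,
          zero_add]
        have h4 : f y x = - f x y := (LinearMap.BilinForm.IsAlt.neg_eq hfa x y).symm
        have h5 : (-1 : F) = 1 := by
          rcases h2c (-1) with h | h
          · exact absurd (neg_eq_zero.1 h) one_ne_zero
          · exact h
        rw [h4, hxy, h5, one_smul, ← add_assoc, hVV, zero_add]
    have horb : ∀ x y z : V, y ∈ orbit (St G v) x → z ∈ orbit (St G v) y → z ∈ orbit (St G v) x := by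
      rintro x y z ⟨g, rfl⟩ ⟨h, rfl⟩
      exact ⟨h * g, mul_smul _ _ _⟩
    have hadd : w + v ∈ orbit (St G v) w := by
      have h2 : ((1 : F) • f v) v = 0 := by rw [LinearMap.smul_apply, hfa, smul_zero]
      obtain ⟨g, hg, h3⟩ := (h (LinearEquiv.transvection h2)).1 (symp_tr hfa v _ h2)
      refine mem_orbit_St.2 ⟨g, hle hg, ?_, ?_⟩
      · rw [h3, LinearEquiv.transvection.apply, h2, zero_smul, add_zero]
      · rw [h3, LinearEquiv.transvection.apply, LinearMap.smul_apply, one_smul, hw1, one_smul]
    have h1 : {x : V | f v x = 1} ⊆ orbit (St G v) w := by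
      intro x hx
      have hx1 : f v x = 1 := hx
      rcases h2c (f w x) with h3 | h3
      · -- not adjacent
        by_cases hxw : x = w
        · rw [hxw]; exact mem_orbit_self _
        by_cases hxv : x = w + v
        · rw [hxv]; exact hadd
        -- find z with `f v z = f w z = f x z = 1`
        obtain ⟨z, hz1, hz2, hz3⟩ : ∃ z, f v z = 1 ∧ f w z = 1 ∧ f x z = 1 := by
          have hx0 : x ≠ 0 := by
            rintro rfl
            rw [map_zero] at hx1
            exact zero_ne_one hx1
          have hvm : v ∉ Submodule.span F {v + w, v + x} := by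
            intro hm
            obtain ⟨a, b, hab⟩ := Submodule.mem_span_pair.1 hm
            rcases h2c a with rfl | rfl <;> rcases h2c b with rfl | rfl
            · rw [zero_smul, zero_smul, add_zero] at hab
              exact hv hab.symm
            · rw [zero_smul, one_smul, zero_add] at hab
              exact hx0 (by simpa using hab)
            · rw [zero_smul, one_smul, add_zero] at hab
              exact hw0 (by simpa using hab)
            · rw [one_smul, one_smul] at hab
              have h5 : v + w + (v + x) = w + x := by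
                have : v + w + (v + x) = (v + v) + (w + x) := by abel
                rw [this, hVV, zero_add]
              rw [h5] at hab
              apply hxv
              rw [← hab, ← add_assoc, hVV, zero_add]
          obtain ⟨ψ, hψv, hψ⟩ := Submodule.exists_dual_map_eq_bot_of_notMem hvm inferInstance
          have hψv1 : ψ v = 1 := (h2c _).resolve_left hψv
          have hzero : ∀ y ∈ Submodule.span F {v + w, v + x}, ψ y = 0 := by
            intro y hy
            have h1' : ψ y ∈ (Submodule.span F {v + w, v + x}).map ψ := ⟨y, hy, rfl⟩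
            rw [hψ] at h1'
            exact (Submodule.mem_bot F).1 h1'
          have hne : (-1 : F) = 1 := by
            rcases h2c (-1) with h | h
            · exact absurd (neg_eq_zero.1 h) one_ne_zero
            · exact h
          have hψw : ψ w = 1 := by
            have h6 := hzero (v + w) (Submodule.subset_span (by simp))
            rw [map_add, hψv1] at h6
            have : ψ w = -1 := (neg_eq_of_add_eq_zero_right h6).symm
            rw [this, hne]
          have hψx : ψ x = 1 := by
            have h6 := hzero (v + x) (Submodule.subset_span (by simp))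
            rw [map_add, hψv1] at h6
            have : ψ x = -1 := (neg_eq_of_add_eq_zero_right h6).symm
            rw [this, hne]
          refine ⟨(f.toDual hfn).symm ψ, ?_, ?_, ?_⟩
          · rw [(LinearMap.BilinForm.IsAlt.neg_eq hfa _ v).symm, LinearMap.BilinForm.apply_toDual_symm_apply, hψv1, hne]
          · rw [(LinearMap.BilinForm.IsAlt.neg_eq hfa _ w).symm, LinearMap.BilinForm.apply_toDual_symm_apply, hψw, hne]
          · rw [(LinearMap.BilinForm.IsAlt.neg_eq hfa _ x).symm, LinearMap.BilinForm.apply_toDual_symm_apply, hψx, hne]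
        have hzx : f z x = 1 := by
          rw [(LinearMap.BilinForm.IsAlt.neg_eq hfa x z).symm, hz3]
          rcases h2c (-1) with h | h
          · exact absurd (neg_eq_zero.1 h) one_ne_zero
          · exact h
        exact horb w z x (hstep w z hw1 hz1 hz2) (hstep z x hz1 hx1 hzx)
      · exact hstep w x hw1 hx1 h3
    -- counting
    have h2 := Set.ncard_le_ncard h1 (Set.toFinite _)
    rw [← Nat.card_coe_set_eq (orbit (St G v) w), H.orb v w hv hw0 hwv] at h2
    have h3 : 2 * ({x : V | f v x = 1} : Set V).ncard = Nat.card V := by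
      have h4 : (fun x => x + w) '' {x : V | f v x = 1} = {x : V | f v x = 1}ᶜ := by
        ext y
        simp only [Set.mem_image, Set.mem_ofPred_eq, Set.mem_compl_iff]
        constructor
        · rintro ⟨x, hx, rfl⟩
          rw [map_add, hx, hw1, one_add_one_eq_two, hchar]
          exact zero_ne_one
        · intro hy
          have hy0 : f v y = 0 := (h2c _).resolve_right hy
          refine ⟨y + w, ?_, ?_⟩
          · rw [map_add, hy0, hw1, zero_add]
          · rw [add_assoc, hVV, add_zero]
      have h5 : ({x : V | f v x = 1}ᶜ : Set V).ncard = ({x : V | f v x = 1} : Set V).ncard := by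
        rw [← h4, Set.ncard_image_of_injective _ (add_left_injective w)]
      have h6 := Set.ncard_add_ncard_compl ({x : V | f v x = 1} : Set V)
      omega
    omega

/-- **The linear form of the affine case in characteristic two.** -/
theorem LH.main (H : LH G m) (hV : 2 < Nat.card V)
    (hG2 : ∀ (F : Type) [Field F] [Fintype F], Nat.card (Cfsg.Lie.chevG2.group F) =
      Fintype.card F ^ 6 * (Fintype.card F ^ 2 - 1) * (Fintype.card F ^ 6 - 1))
    (hU : ∀ (E : Type) [Field E] [Fintype E], Fintype.card E = 9 → Nat.card (Cfsg.PSU 3 E 3) = 6048)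
    (hM : MainOut G (⊥ : Subgroup (V ≃ₗ[ZMod 2] V))) :
    m = 1 ∨ Nat.card V - 2 < 2 * m ∨ ∃ p : ℕ, p.Prime ∧ Nat.card V = 2 ^ p ∧ Nat.card G = (2 ^ p - 1) * p := by
  classical
  have hfgl := finite_gl (V := V)
  obtain ⟨v, hv⟩ := exists_ne (0 : V)
  have hcardV : Nat.card V = 2 ^ finrank (ZMod 2) V := by
    rw [Module.natCard_eq_pow_finrank (K := ZMod 2), Nat.card_zmod]
  have heven : Even (Nat.card V) := by
    rw [hcardV, Nat.even_pow]
    refine ⟨even_two, ?_⟩
    intro h
    rw [h] at hcardV
    omega
  obtain ⟨A, -, -, h | h | ⟨L, b, hP, hQ, -, -, h⟩⟩ := hM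
  · rcases H.semi hV h with h | h
    · exact Or.inl h
    · exact Or.inr (Or.inr h)
  · exfalso
    rcases h with h | h | h
    · exact absurd h.1 (by norm_num)
    · obtain ⟨-, h, -⟩ := h
      rcases h with h | h | h | h <;> exact absurd h (by norm_num)
    · exact absurd h.2.1 (by norm_num)
  · rcases h with h | h
    · obtain ⟨F, _, _, _, hfr, hc, hend, hact⟩ := h
      by_cases hF : 3 ≤ Fintype.card F
      · exfalso
        refine H.nat_big hP.le hP.nor hfr hF hc hend (hG2 F) ?_
        rcases hact with h | h | h
        · exact Or.inl h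
        · exact Or.inr (Or.inl h)
        · exact Or.inr (Or.inr ⟨h.2.1, h.2.2.2.1⟩)
      · have hF2 : Fintype.card F = 2 := by
          have : 1 < Fintype.card F := Fintype.one_lt_card
          omega
        right; left
        refine H.nat_two hP.le hfr hF2 ?_
        rcases hact with h | h | h
        · exact Or.inl h
        · exact Or.inr h
        · exact absurd h.2.2.1 (by omega)
    · -- exceptional groups
      have hLd : Nat.card L ∣ Nat.card G := Subgroup.card_dvd_of_le hP.le
      have hGc := H.card_eq hv
      have hdv := H.dvd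
      have key : ∀ d r : ℕ, finrank (ZMod 2) V = d → 2 ∣ Nat.card G → (3 * (2 ^ d - 1)) ∣ Nat.card G →
          3 ≤ m ∧ 2 ∣ m := by
        intro d r hd h2 h3
        refine ⟨?_, H.two_dvd h2 heven⟩
        apply H.prime_le hv Nat.prime_three
        rw [hGc, hcardV, hd, mul_comm 3] at h3
        refine Nat.dvd_of_mul_dvd_mul_left ?_ h3
        rw [hcardV, hd] at hV
        omega
      rcases h with h | h | h | h
      · exfalso
        rcases h.1 with h | h
        · rcases h.2 with h | h | h | h <;> exact absurd h (by norm_num)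
        · exact absurd h.2 (by norm_num)
      · obtain ⟨-, hd, -, h⟩ := h
        right; left
        have h360 : 360 ∣ Nat.card L := by
          rcases h with ⟨⟨e⟩⟩ | ⟨⟨e⟩⟩
          · rw [Nat.card_congr e.toEquiv]
            rw [nat_card_alternatingGroup]
            simp [Nat.factorial]
          · rw [Nat.card_congr e.toEquiv]
            rw [nat_card_alternatingGroup]
            simp [Nat.factorial]
        have h360' := h360.trans hLd
        obtain ⟨h3, h2⟩ := key 4 0 hd ((by norm_num : 2 ∣ 360).trans h360') (by
          exact (by norm_num : (3 * (2 ^ 4 - 1)) ∣ 360).trans h360')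
        rw [hcardV, hd] at hdv ⊢
        norm_num at hdv ⊢
        have h14 : m ≤ 14 := Nat.le_of_dvd (by norm_num) hdv
        interval_cases m <;> omega
      · exact absurd h.1 (by norm_num)
      · obtain ⟨-, hd, -, E, _, _, hE, ⟨e⟩⟩ := h
        right; left
        have h6048 : 6048 ∣ Nat.card G := by
          rw [Nat.card_congr e.toEquiv, hU E hE] at hLd
          exact hLd
        obtain ⟨h3, h2⟩ := key 6 0 hd ((by norm_num : 2 ∣ 6048).trans h6048) (by
          exact (by norm_num : (3 * (2 ^ 6 - 1)) ∣ 6048).trans h6048)
        rw [hcardV, hd] at hdv ⊢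
        norm_num at hdv ⊢
        have h62 : m ≤ 62 := Nat.le_of_dvd (by norm_num) hdv
        interval_cases m <;> omega

end Cfsg.Agent.H386.HalfTwo
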