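import Cfsg.Agent.H386.HalfTwo.Base
import Cfsg.Agent.H386.HalfTwo.LinMain

/-!
# `(2+1/2)`-transitive affine groups (helper386)
-/

set_option autoImplicit false
set_option linter.unusedSectionVars false
set_option linter.style.haveILetI false

namespace Cfsg.Agent.H386.HalfTwo

open Module MulAction Cfsg.Agent.H50.Her

universe u v

variable {G : Type u} {Ω : Type v} [Group G] [MulAction G Ω] {N : Subgroup G} {m : ℕ}

theorem smul_eq_iff_conj (hN : N.Normal) (hsr : ∀ x : Ω, ∀ n ∈ N, n • x = x → n = 1) {o : Ω} {h v w : G}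
    (ho : h • o = o) (hv : v ∈ N) (hw : w ∈ N) : h • v • o = w • o ↔ h * v * h⁻¹ = w := by
  have h0 : h • v • o = (h * v * h⁻¹) • o := by
    rw [mul_smul, mul_smul, inv_smul_eq_iff.2 ho.symm]
  constructor
  · intro h1
    rw [h0] at h1
    have h2 : w⁻¹ * (h * v * h⁻¹) = 1 :=
      hsr o _ (N.mul_mem (N.inv_mem hw) (hN.conj_mem v hv h)) (by rw [mul_smul, h1, inv_smul_smul])
    exact (inv_mul_eq_one.1 h2).symm
  · intro h1
    rw [h0, h1]

/-- odd characteristic -/
theorem affine_odd [Finite Ω] (hn : 3 ≤ Nat.card Ω) (H : Half G Ω m) (hN : N.Normal) (hN1 : N ≠ ⊥) {p : ℕ}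
    (hp : p.Prime) (hp2 : p ≠ 2) (hexp : ∀ n ∈ N, n ^ p = 1)
    (hsr : ∀ x : Ω, ∀ n ∈ N, n • x = x → n = 1) : m = 1 := by
  have hnt : Nontrivial Ω := Finite.one_lt_card_iff_nontrivial.1 (by omega)
  have hne : Nonempty Ω := inferInstance
  obtain ⟨o⟩ := hne
  obtain ⟨⟨v, hv⟩, hv1'⟩ := Subgroup.ne_bot_iff_exists_ne_one.1 hN1
  have hv1 : v ≠ 1 := fun h => hv1' (Subtype.ext h)
  have hvv : v * v ≠ 1 := by
    intro h
    have h1 : orderOf v ∣ 2 := orderOf_dvd_of_pow_eq_one (by rw [pow_two]; exact h)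
    have h2 : orderOf v ∣ p := orderOf_dvd_of_pow_eq_one (hexp v hv)
    rcases (Nat.dvd_prime hp).1 h2 with h3 | h3
    · exact hv1 (orderOf_eq_one_iff.1 h3)
    · rw [h3] at h1
      exact hp2 ((Nat.prime_dvd_prime_iff_eq hp Nat.prime_two).1 h1)
  have h1 := H.orb o (v • o) ((v * v) • o) (fun h => hv1 (hsr o v hv h.symm))
    (fun h => hvv (hsr o _ (N.mul_mem hv hv) h)) (by
      intro h
      apply hv1
      rw [mul_smul] at h
      exact hsr (v • o) v hv h)
  have h2 : orbit (GG G o (v • o)) ((v * v) • o) = {(v * v) • o} := by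
    ext x
    constructor
    · rintro ⟨⟨g, hg⟩, rfl⟩
      have hg' := mem_GG.1 hg
      have h3 := (smul_eq_iff_conj hN hsr hg'.1 hv hv).1 hg'.2
      show g • (v * v) • o = (v * v) • o
      rw [smul_eq_iff_conj hN hsr hg'.1 (N.mul_mem hv hv) (N.mul_mem hv hv)]
      calc g * (v * v) * g⁻¹ = (g * v * g⁻¹) * (g * v * g⁻¹) := by group
        _ = v * v := by rw [h3]
    · rintro rfl
      exact mem_orbit_self _
  rw [h2] at h1
  rw [← h1]
  simp

/-- **The affine case.** -/
theorem affine_two [Finite G] [Finite Ω] [FaithfulSMul G Ω] (h2 : IsMultiplyPretransitive G Ω 2)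
    (hn : 3 ≤ Nat.card Ω) (H : Half G Ω m) (hN : N.Normal) (hc : ∀ x ∈ N, ∀ y ∈ N, x * y = y * x)
    (hexp : ∀ n ∈ N, n ^ 2 = 1)
    (htr : ∀ x y : Ω, ∃ n ∈ N, n • x = y) (hsr : ∀ x : Ω, ∀ n ∈ N, n • x = x → n = 1)
    (hG2 : ∀ (F : Type) [Field F] [Fintype F], Nat.card (Cfsg.Lie.chevG2.group F) =
      Fintype.card F ^ 6 * (Fintype.card F ^ 2 - 1) * (Fintype.card F ^ 6 - 1))
    (hU : ∀ (E : Type) [Field E] [Fintype E], Fintype.card E = 9 → Nat.card (Cfsg.PSU 3 E 3) = 6048)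
    (hM : ∀ (V : Type u) [AddCommGroup V] [Module (ZMod 2) V] [Finite V] [Nontrivial V]
      (G : Subgroup (V ≃ₗ[ZMod 2] V)), (∀ v w : V, v ≠ 0 → w ≠ 0 → ∃ g ∈ G, g v = w) →
      MainOut G (⊥ : Subgroup (V ≃ₗ[ZMod 2] V))) :
    m = 1 ∨ IsMultiplyPretransitive G Ω 3 ∨
      ∃ p : ℕ, p.Prime ∧ Nat.card Ω = 2 ^ p ∧ Nat.card G = 2 ^ p * (2 ^ p - 1) * p := by
  classical
  have hnt : Nontrivial Ω := Finite.one_lt_card_iff_nontrivial.1 (by omega)
  obtain ⟨o⟩ : Nonempty Ω := inferInstance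
  letI iC : CommGroup N := { (inferInstance : Group N) with mul_comm := fun x y => Subtype.ext (hc x x.2 y y.2) }
  let V := Additive N
  have hVz : ∀ x : V, 2 • x = 0 := by
    intro x
    have h1 : x.toMul ^ 2 = 1 := Subtype.ext (hexp _ x.toMul.2)
    exact congrArg Additive.ofMul h1
  letI iM : Module (ZMod 2) V := AddCommGroup.zmodModule hVz
  have hcardN : Nat.card N = Nat.card Ω := by
    refine Nat.card_congr (Equiv.ofBijective (fun v : N => (v : G) • o) ⟨?_, ?_⟩)
    · intro v w h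
      have h' : (v : G) • o = (w : G) • o := h
      have h1 : (w : G)⁻¹ * v = 1 := hsr o _ (N.mul_mem (N.inv_mem w.2) v.2) (by rw [mul_smul, h', inv_smul_smul])
      exact Subtype.ext (inv_mul_eq_one.1 h1).symm
    · intro x
      obtain ⟨n, hn, h⟩ := htr o x
      exact ⟨⟨n, hn⟩, h⟩
  have hcardV : Nat.card V = Nat.card Ω := hcardN
  have hfinV : Finite V := inferInstanceAs (Finite N)
  have hntV : Nontrivial V := Finite.one_lt_card_iff_nontrivial.1 (by rw [hcardV]; omega)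
  -- the linear representation
  let ρ : stabilizer G o →* (V ≃ₗ[ZMod 2] V) :=
    { toFun := fun g =>
        { (MulEquiv.toAdditive (MulAut.conjNormal (g : G) : N ≃* N)) with
          map_smul' := fun c x => ZMod.map_smul (MulEquiv.toAdditive (MulAut.conjNormal (g : G) : N ≃* N)) c x }
      map_one' := by
        apply LinearEquiv.ext
        intro x
        show Additive.ofMul ((MulAut.conjNormal ((1 : stabilizer G o) : G) : N ≃* N) x.toMul) = x
        rw [OneMemClass.coe_one, map_one]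
        rfl
      map_mul' := by
        intro g h
        apply LinearEquiv.ext
        intro x
        show Additive.ofMul ((MulAut.conjNormal ((g * h : stabilizer G o) : G) : N ≃* N) x.toMul) = _
        rw [Subgroup.coe_mul, map_mul]
        rfl }
  have hρ : ∀ (g : stabilizer G o) (n : N), (((ρ g (Additive.ofMul n)).toMul : N) : G) = (g : G) * n * (g : G)⁻¹ :=
    fun g n => MulAut.conjNormal_apply (g : G) n
  have hρi : Function.Injective ρ := by
    intro g k hgk
    apply Subtype.ext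
    apply FaithfulSMul.eq_of_smul_eq_smul (α := Ω)
    intro x
    obtain ⟨n, hn, rfl⟩ := htr o x
    have h1 : (g : G) * n * (g : G)⁻¹ = (k : G) * n * (k : G)⁻¹ := by
      rw [← hρ g ⟨n, hn⟩, ← hρ k ⟨n, hn⟩, hgk]
    rw [(smul_eq_iff_conj hN hsr g.2 hn (hN.conj_mem n hn (g : G))).2 rfl, h1,
      (smul_eq_iff_conj hN hsr k.2 hn (hN.conj_mem n hn (k : G))).2 rfl]
  let ψ : V → Ω := fun x => ((x.toMul : N) : G) • o
  have hψi : Function.Injective ψ := by
    intro x y h
    have h' : ((x.toMul : N) : G) • o = ((y.toMul : N) : G) • o := h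
    have h1 : ((y.toMul : N) : G)⁻¹ * ((x.toMul : N) : G) = 1 :=
      hsr o _ (N.mul_mem (N.inv_mem y.toMul.2) x.toMul.2) (by rw [mul_smul, h', inv_smul_smul])
    exact Additive.toMul.injective (Subtype.ext (inv_mul_eq_one.1 h1).symm)
  have hψ0 : ψ 0 = o := one_smul _ _
  have hψρ : ∀ (g : stabilizer G o) (x : V), ψ (ρ g x) = (g : G) • ψ x := by
    intro g x
    have h1 := hρ g x.toMul
    show (((ρ g x).toMul : N) : G) • o = (g : G) • ((x.toMul : N) : G) • o
    rw [(smul_eq_iff_conj hN hsr g.2 x.toMul.2 (hN.conj_mem _ x.toMul.2 (g : G))).2 rfl]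
    exact congrArg (fun z : G => z • o) h1
  have hLH : LH ρ.range m := by
    constructor
    · intro v w hv hw
      have h3 : ψ v ≠ o := fun h => hv (hψi (h.trans hψ0.symm))
      have h4 : ψ w ≠ o := fun h => hw (hψi (h.trans hψ0.symm))
      obtain ⟨g, g1, g2⟩ := Cfsg.Agent.H384.TwoTrans.two_pts h2 o (ψ v) o (ψ w) h3.symm h4.symm
      refine ⟨ρ ⟨g, g1⟩, ⟨_, rfl⟩, ?_⟩
      apply hψi
      rw [hψρ]
      exact g2
    · intro v w hv hw hwv
      have h3 : ψ v ≠ o := fun h => hv (hψi (h.trans hψ0.symm))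
      have h4 : ψ w ≠ o := fun h => hw (hψi (h.trans hψ0.symm))
      have h5 : ψ w ≠ ψ v := fun h => hwv (hψi h)
      rw [← H.orb o (ψ v) (ψ w) h3.symm h4 h5]
      have h6 : orbit (GG G o (ψ v)) (ψ w) = ψ '' (orbit (St ρ.range v) w) := by
        ext x
        constructor
        · rintro ⟨⟨g, hg⟩, rfl⟩
          have hg' := mem_GG.1 hg
          refine ⟨ρ ⟨g, hg'.1⟩ w, mem_orbit_St.2 ⟨_, ⟨_, rfl⟩, ?_, rfl⟩, ?_⟩
          · apply hψi
            rw [hψρ]
            exact hg'.2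
          · rw [hψρ]
            rfl
        · rintro ⟨y, hy, rfl⟩
          obtain ⟨_, ⟨g, rfl⟩, h7, rfl⟩ := mem_orbit_St.1 hy
          refine ⟨⟨g, mem_GG.2 ⟨g.2, ?_⟩⟩, ?_⟩
          · rw [← hψρ, h7]
          · exact (hψρ g w).symm
      rw [h6]
      exact (Nat.card_image_of_injective hψi _).symm
  rcases hLH.main (by rw [hcardV]; omega) hG2 hU (hM V ρ.range hLH.tr) with h | h | ⟨p, hp, h3, h4⟩
  · exact Or.inl h
  · right; left
    rw [hcardV] at h
    exact H.three_of_lt hn h2 h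
  · right; right
    rw [hcardV] at h3
    refine ⟨p, hp, h3, ?_⟩
    have h5 : Nat.card ρ.range = Nat.card (stabilizer G o) :=
      (Nat.card_congr (MonoidHom.ofInjective hρi).toEquiv).symm
    have htrG : IsPretransitive G Ω := ⟨fun x y => by
      obtain ⟨n, -, hn⟩ := htr x y
      exact ⟨n, hn⟩⟩
    have h6 : (stabilizer G o).index = Nat.card Ω := index_stabilizer_of_transitive G o
    rw [← (stabilizer G o).card_mul_index, ← h5, h4, h6, h3]
    ring

end Cfsg.Agent.H386.HalfTwo
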