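import Cfsg.Agent.H488.ThreeHalf

/-!
# `(2+1/2)`-transitive groups (S3576): general part (helper386)

* `GG a b` : the stabiliser of two points;
* `Half G Ω m` : all the orbits of `GG a b` (`a ≠ b`) on the other points have length `m`.
-/

set_option autoImplicit false

namespace Cfsg.Agent.H386.HalfTwo

open MulAction Cfsg.Agent.H392.MultTrans Cfsg.Agent.H384.TwoTrans Cfsg.Agent.H488.ThreeHalf

universe u v

variable {G : Type u} {Ω : Type v} [Group G] [MulAction G Ω] {T : Subgroup G}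

/-- the stabiliser of two points -/
def GG (G : Type u) {Ω : Type v} [Group G] [MulAction G Ω] (a b : Ω) : Subgroup G := stabilizer G a ⊓ stabilizer G b

theorem mem_GG {a b : Ω} {g : G} : g ∈ GG G a b ↔ g • a = a ∧ g • b = b := by
  unfold GG
  rw [Subgroup.mem_inf, mem_stabilizer_iff, mem_stabilizer_iff]

/-- all the orbits of the stabilisers of two points on the other points have length `m` -/
structure Half (G : Type u) (Ω : Type v) [Group G] [MulAction G Ω] (m : ℕ) : Prop where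
  orb : ∀ a b c : Ω, a ≠ b → c ≠ a → c ≠ b → Nat.card (orbit (GG G a b) c) = m

/-- a pair of points -/
def pair (a b : Ω) (hab : a ≠ b) : Fin 2 ↪ Ω :=
  ⟨![a, b], by
    intro i j hij
    fin_cases i <;> fin_cases j <;> simp_all⟩

theorem iInf_pair (s : Fin 2 ↪ Ω) : (⨅ i, stabilizer G (s i)) = GG G (s 0) (s 1) := by
  ext g
  rw [Subgroup.mem_iInf, mem_GG]
  constructor
  · intro h
    exact ⟨h 0, h 1⟩
  · rintro ⟨h0, h1⟩ i
    fin_cases i
    · exact h0
    · exact h1

theorem GG_conj {a b : Ω} (g : G) (n : G) : n ∈ GG G a b ↔ g * n * g⁻¹ ∈ GG G (g • a) (g • b) := by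
  rw [mem_GG, mem_GG, mul_smul, mul_smul, inv_smul_smul, mul_smul, mul_smul, inv_smul_smul]
  constructor
  · rintro ⟨h1, h2⟩
    rw [h1, h2]
    exact ⟨rfl, rfl⟩
  · rintro ⟨h1, h2⟩
    exact ⟨smul_left_cancel g h1, smul_left_cancel g h2⟩

theorem card_orbit_conj {a b : Ω} (g : G) (c : Ω) :
    Nat.card (orbit (GG G (g • a) (g • b)) (g • c)) = Nat.card (orbit (GG G a b) c) := by
  have h1 : (fun x : Ω => g • x) '' (orbit (GG G a b) c) = orbit (GG G (g • a) (g • b)) (g • c) := by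
    ext x
    constructor
    · rintro ⟨_, ⟨u, rfl⟩, rfl⟩
      refine ⟨⟨g * u * g⁻¹, (GG_conj g _).1 u.2⟩, ?_⟩
      show (g * u * g⁻¹) • (g • c) = g • ((u : G) • c)
      rw [mul_smul, mul_smul, inv_smul_smul]
    · rintro ⟨u, rfl⟩
      have h2 : g⁻¹ * u * g ∈ GG G a b := by
        rw [GG_conj g]
        have : g * (g⁻¹ * u * g) * g⁻¹ = u := by group
        rw [this]
        exact u.2
      refine ⟨(g⁻¹ * u * g) • c, ⟨⟨g⁻¹ * u * g, h2⟩, rfl⟩, ?_⟩
      show g • (g⁻¹ * u * g) • c = (u : G) • (g • c)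
      rw [mul_smul, mul_smul, smul_inv_smul]
  rw [← h1]
  exact Nat.card_image_of_injective (fun x y h => smul_left_cancel g h) _

/-- the hypothesis of S3576 -/
theorem exists_half [Finite Ω] (hn : 3 ≤ Nat.card Ω) (htrans : IsMultiplyPretransitive G Ω 2)
    (hhalf : ∀ s : Fin 2 ↪ Ω, ∀ b c : Ω, b ∉ Set.range s → c ∉ Set.range s →
      Nat.card (MulAction.orbit (↥(⨅ i, MulAction.stabilizer G (s i))) b) =
        Nat.card (MulAction.orbit (↥(⨅ i, MulAction.stabilizer G (s i))) c)) : ∃ m, Half G Ω m := by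
  have hnt : Nontrivial Ω := Finite.one_lt_card_iff_nontrivial.1 (by omega)
  obtain ⟨a, b, hab⟩ := exists_pair_ne Ω
  obtain ⟨c, hc⟩ : ∃ c : Ω, c ≠ a ∧ c ≠ b := by
    by_contra hcon
    push Not at hcon
    have h1 := ncard_compl_pair hab
    have h2 : ({x : Ω | x ≠ a ∧ x ≠ b} : Set Ω) = ∅ := by
      ext x
      simp only [Set.mem_ofPred_eq, Set.mem_empty_iff_false, iff_false, not_and, not_not]
      exact hcon x
    rw [h2, Set.ncard_empty] at h1
    omega
  refine ⟨Nat.card (orbit (GG G a b) c), ⟨fun a' b' c' hab' hca' hcb' => ?_⟩⟩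
  obtain ⟨g, g1, g2⟩ := two_pts htrans a b a' b' hab hab'
  subst g1 g2
  obtain ⟨c', rfl⟩ : ∃ d, g • d = c' := ⟨g⁻¹ • c', smul_inv_smul g c'⟩
  rw [card_orbit_conj]
  have h := hhalf (pair a b hab) c' c (by
    rintro ⟨i, hi⟩
    fin_cases i
    · exact hca' (congrArg (fun x => g • x) hi.symm)
    · exact hcb' (congrArg (fun x => g • x) hi.symm)) (by
    rintro ⟨i, hi⟩
    fin_cases i
    · exact hc.1 hi.symm
    · exact hc.2 hi.symm)
  have h2 : (⨅ i, stabilizer G (pair a b hab i)) = GG G a b := iInf_pair _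
  rw [h2] at h
  exact h

theorem GG_fix_a {a b : Ω} : Nat.card (orbit (GG G a b) a) = 1 ∧ Nat.card (orbit (GG G a b) b) = 1 := by
  constructor
  · have : orbit (GG G a b) a = {a} := by
      ext x
      constructor
      · rintro ⟨g, rfl⟩
        exact (mem_GG.1 g.2).1
      · rintro rfl
        exact mem_orbit_self _
    rw [this]; simp
  · have : orbit (GG G a b) b = {b} := by
      ext x
      constructor
      · rintro ⟨g, rfl⟩
        exact (mem_GG.1 g.2).2
      · rintro rfl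
        exact mem_orbit_self _
    rw [this]; simp

theorem ne_of_smul {a c : Ω} {g : G} (hg : g • a = a) (hc : c ≠ a) : g • c ≠ a := by
  intro h
  apply hc
  rw [← hg] at h
  exact smul_left_cancel g h

/-- `|G| = n (n - 1) |G_ab|` -/
theorem card_eq [Finite G] [Finite Ω] (h2 : IsMultiplyPretransitive G Ω 2) {a b : Ω} (hab : a ≠ b) :
    Nat.card G = Nat.card Ω * (Nat.card Ω - 1) * Nat.card (GG G a b) := by
  have h4 := card_eq_descFactorial h2 (pair a b hab)
  have h5 : stabilizer G (pair a b hab) = GG G a b := by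
    rw [← iInf_stab]
    exact iInf_pair _
  have h6 : (Nat.card Ω).descFactorial 2 = Nat.card Ω * (Nat.card Ω - 1) := by
    rw [Nat.descFactorial_succ, Nat.descFactorial_one, mul_comm]
  rw [h6, h5] at h4
  exact h4

namespace Half

variable {m : ℕ} (H : Half G Ω m)
include H

/-- `m` divides `n - 2` -/
theorem dvd [Finite Ω] [Nontrivial Ω] : m ∣ Nat.card Ω - 2 := by
  obtain ⟨a, b, hab⟩ := exists_pair_ne Ω
  rw [← ncard_compl_pair hab]
  refine dvd_ncard_of_orbits (GG G a b) _ ?_ ?_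
  · rintro g hg x ⟨hx1, hx2⟩
    rw [mem_GG] at hg
    exact ⟨ne_of_smul hg.1 hx1, ne_of_smul hg.2 hx2⟩
  · intro x hx
    exact H.orb a b x hab hx.1 hx.2

theorem pos [Finite Ω] (hn : 3 ≤ Nat.card Ω) : 0 < m := by
  have hnt : Nontrivial Ω := Finite.one_lt_card_iff_nontrivial.1 (by omega)
  have h := H.dvd
  rcases Nat.eq_zero_or_pos m with rfl | h0
  · rw [zero_dvd_iff] at h
    omega
  · exact h0

/-- `m = 1`: the stabilisers of two points are trivial -/
theorem eq_bot_of_one [FaithfulSMul G Ω] (h : m = 1) {a b : Ω} (hab : a ≠ b) : GG G a b = ⊥ := by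
  apply eq_bot_of_orbit_one (Ω := Ω)
  intro x
  by_cases h1 : x = a
  · rw [h1]; exact GG_fix_a.1
  by_cases h2 : x = b
  · rw [h2]; exact GG_fix_a.2
  · rw [H.orb a b x hab h1 h2, h]

theorem concl_of_one [FaithfulSMul G Ω] (h : m = 1) : ∀ s : Fin 2 ↪ Ω, (⨅ i, stabilizer G (s i)) = ⊥ := by
  intro s
  rw [iInf_pair]
  exact H.eq_bot_of_one h (fun h => by simpa using s.injective h)

/-- **`m > (n - 2) / 2`: `G` is 3-transitive.** -/
theorem three_of_lt [Finite Ω] (hn : 3 ≤ Nat.card Ω) (h2 : IsMultiplyPretransitive G Ω 2)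
    (h : Nat.card Ω - 2 < 2 * m) : IsMultiplyPretransitive G Ω 3 := by
  have hnt : Nontrivial Ω := Finite.one_lt_card_iff_nontrivial.1 (by omega)
  have hd := H.dvd
  have hm : m = Nat.card Ω - 2 := by
    obtain ⟨k, hk⟩ := hd
    rcases k with - | - | k
    · omega
    · omega
    · exfalso
      have : m * (k + 1 + 1) = 2 * m + m * k := by ring
      omega
  apply of_exists_map
  intro s t
  have hs : s 0 ≠ s 1 := fun h => by simpa using s.injective h
  have ht : t 0 ≠ t 1 := fun h => by simpa using t.injective h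
  have hs2 : s 2 ≠ s 0 ∧ s 2 ≠ s 1 := ⟨fun h => by simpa using s.injective h, fun h => by simpa using s.injective h⟩
  have ht2 : t 2 ≠ t 0 ∧ t 2 ≠ t 1 := ⟨fun h => by simpa using t.injective h, fun h => by simpa using t.injective h⟩
  obtain ⟨g, g1, g2⟩ := two_pts h2 (s 0) (s 1) (t 0) (t 1) hs ht
  have hsub : orbit (GG G (t 0) (t 1)) (g • s 2) ⊆ {x : Ω | x ≠ t 0 ∧ x ≠ t 1} := by
    rintro _ ⟨u, rfl⟩
    have hu := mem_GG.1 u.2
    refine ⟨ne_of_smul hu.1 ?_, ne_of_smul hu.2 ?_⟩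
    · rw [← g1]
      exact fun h => hs2.1 (smul_left_cancel g h)
    · rw [← g2]
      exact fun h => hs2.2 (smul_left_cancel g h)
  have heq : orbit (GG G (t 0) (t 1)) (g • s 2) = {x : Ω | x ≠ t 0 ∧ x ≠ t 1} := by
    apply Set.eq_of_subset_of_ncard_le hsub
    · rw [ncard_compl_pair ht, ← Nat.card_coe_set_eq, H.orb (t 0) (t 1) _ ht ?_ ?_, hm]
      · rw [← g1]
        exact fun h => hs2.1 (smul_left_cancel g h)
      · rw [← g2]
        exact fun h => hs2.2 (smul_left_cancel g h)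
  have hmem : t 2 ∈ orbit (GG G (t 0) (t 1)) (g • s 2) := by
    rw [heq]
    exact ht2
  obtain ⟨u, hu⟩ := hmem
  have hu' := mem_GG.1 u.2
  refine ⟨(u : G) * g, fun i => ?_⟩
  rw [mul_smul]
  fin_cases i
  · show (u : G) • g • s 0 = t 0
    rw [g1, hu'.1]
  · show (u : G) • g • s 1 = t 1
    rw [g2, hu'.2]
  · exact hu

/-- `m` divides the order of the stabiliser of two points -/
theorem dvd_GG [Finite Ω] (hn : 3 ≤ Nat.card Ω) {a b : Ω} (hab : a ≠ b) : m ∣ Nat.card (GG G a b) := by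
  obtain ⟨c, hc⟩ : ∃ c : Ω, c ≠ a ∧ c ≠ b := by
    by_contra hcon
    push Not at hcon
    have h1 := ncard_compl_pair hab
    have h2 : ({x : Ω | x ≠ a ∧ x ≠ b} : Set Ω) = ∅ := by
      ext x
      simp only [Set.mem_ofPred_eq, Set.mem_empty_iff_false, iff_false, not_and, not_not]
      exact hcon x
    rw [h2, Set.ncard_empty] at h1
    omega
  rw [← H.orb a b c hab hc.1 hc.2]
  exact card_orbit_dvd_card _ _

/-- an invariant set of points other than `a, b` has cardinality divisible by `m` -/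
theorem dvd_ncard [Finite Ω] {a b : Ω} (hab : a ≠ b) (S : Set Ω) (hS : ∀ x ∈ S, x ≠ a ∧ x ≠ b)
    (hinv : ∀ g : G, g • a = a → g • b = b → ∀ x ∈ S, g • x ∈ S) : m ∣ S.ncard :=
  dvd_ncard_of_orbits (GG G a b) S (fun g hg => hinv g (mem_GG.1 hg).1 (mem_GG.1 hg).2)
    (fun x hx => H.orb a b x hab (hS x hx).1 (hS x hx).2)

/-- the orbits of a subgroup of `G_ab` have length at most `m` -/
theorem le_of_le [Finite Ω] {a b c : Ω} (hab : a ≠ b) (hca : c ≠ a) (hcb : c ≠ b) {N : Subgroup G} (hN : N ≤ GG G a b) :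
    Nat.card (orbit N c) ≤ m := by
  rw [← H.orb a b c hab hca hcb]
  refine Nat.card_mono (Set.toFinite _) ?_
  rintro _ ⟨n, rfl⟩
  exact ⟨⟨n, hN n.2⟩, rfl⟩

/-- the orbits of a normal subgroup of `G_ab` have length dividing `m` -/
theorem dvd_of_normal [Finite Ω] {a b c : Ω} (hab : a ≠ b) (hca : c ≠ a) (hcb : c ≠ b) {N : Subgroup G} (hN : N ≤ GG G a b)
    (hn : ∀ g ∈ GG G a b, ∀ n, n ∈ N ↔ g * n * g⁻¹ ∈ N) : Nat.card (orbit N c) ∣ m := by
  rw [← H.orb a b c hab hca hcb, Nat.card_coe_set_eq (orbit (GG G a b) c)]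
  refine dvd_ncard_of_orbits N (orbit (GG G a b) c) ?_ ?_
  · rintro g hg _ ⟨u, rfl⟩
    exact ⟨⟨g, hN hg⟩ * u, mul_smul _ _ _⟩
  · rintro _ ⟨u, rfl⟩
    exact card_orbit_smul (hn u u.2) c

/-- prime divisors of `|G_ab|` are at most `m` -/
theorem prime_le [Finite G] [Finite Ω] [FaithfulSMul G Ω] {a b : Ω} (hab : a ≠ b) {p : ℕ} (hp : p.Prime)
    (hd : p ∣ Nat.card (GG G a b)) : p ≤ m := by
  classical
  have := Fact.mk hp
  obtain ⟨x, hx⟩ := exists_prime_orderOf_dvd_card' p hd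
  by_contra hcon
  push Not at hcon
  have h1 : (x : G) = 1 := by
    apply FaithfulSMul.eq_of_smul_eq_smul (α := Ω)
    intro c
    rw [one_smul]
    by_cases hca : c = a
    · rw [hca]; exact (mem_GG.1 x.2).1
    by_cases hcb : c = b
    · rw [hcb]; exact (mem_GG.1 x.2).2
    have hz : Nat.card (orbit (Subgroup.zpowers (x : G)) c) ≤ m :=
      H.le_of_le hab hca hcb (by rw [Subgroup.zpowers_le]; exact x.2)
    have hdv : Nat.card (orbit (Subgroup.zpowers (x : G)) c) ∣ p := by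
      have := card_orbit_dvd_card (Subgroup.zpowers (x : G)) c
      rwa [Nat.card_zpowers, Subgroup.orderOf_coe, hx] at this
    rcases (Nat.dvd_prime hp).1 hdv with h | h
    · rw [Nat.card_eq_one_iff_unique] at h
      have h2 : (⟨(x : G) • c, ⟨⟨x, Subgroup.mem_zpowers _⟩, rfl⟩⟩ : orbit (Subgroup.zpowers (x : G)) c) =
          ⟨c, mem_orbit_self c⟩ := h.1.elim _ _
      exact congrArg Subtype.val h2
    · omega
  have h2 : x = 1 := Subtype.ext h1
  rw [h2, orderOf_one] at hx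
  exact hp.one_lt.ne hx

/-- if `m` is prime to `p`, a `p`-subgroup of `G_ab` has at least `(n - 2) / m` more fixed points: every invariant set
`S` avoiding `a, b` with `l m` points contains at least `l` of them; here in the form: every orbit contains one -/
theorem exists_fix [Finite G] [Finite Ω] {a b c : Ω} (hab : a ≠ b) (hca : c ≠ a) (hcb : c ≠ b) {p : ℕ} (hp : p.Prime)
    (hm : ¬ p ∣ m) {P : Subgroup G} (hP : IsPGroup p P) (hle : P ≤ GG G a b) :
    ∃ d ∈ orbit (GG G a b) c, ∀ x ∈ P, x • d = d := by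
  classical
  have := Fact.mk hp
  let C : SubMulAction P Ω :=
    { carrier := orbit (GG G a b) c
      smul_mem' := by
        rintro g _ ⟨u, rfl⟩
        exact ⟨⟨g, hle g.2⟩ * u, mul_smul _ _ _⟩ }
  have hC : Nat.card C = m := H.orb a b c hab hca hcb
  have h1 := hP.card_modEq_card_fixedPoints C
  have h2 : Nonempty (fixedPoints P C) := by
    by_contra hcon
    rw [not_nonempty_iff] at hcon
    rw [Nat.card_of_isEmpty (α := fixedPoints P C), hC] at h1
    exact hm ((Nat.modEq_zero_iff_dvd).1 h1)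
  obtain ⟨⟨d, hd⟩, hdf⟩ := h2
  refine ⟨d, hd, fun x hx => ?_⟩
  exact congrArg Subtype.val (hdf ⟨x, hx⟩)

end Half

end Cfsg.Agent.H386.HalfTwo
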