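import Cfsg.Agent.H386.HalfTwo.Base

/-!
# Counting the fixed pairs of the elements of a class in a 2-transitive group (helper386)
-/

set_option autoImplicit false

namespace Cfsg.Agent.H386.HalfTwo

open MulAction

universe u v

variable {X : Type u} {Ω : Type v} [Group X] [MulAction X Ω]

/-- **the number of elements of a class fixing `a` and `b`** (`a ≠ b`), for a 2-transitive action: `C` is closed under
conjugation and all its elements have `φ` fixed points -/
theorem fix_count [Finite X] [Finite Ω] (h2 : ∀ a b c d : Ω, a ≠ b → c ≠ d → ∃ g : X, g • a = c ∧ g • b = d) (C : Set X)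
    (hC : ∀ t ∈ C, ∀ g : X, g * t * g⁻¹ ∈ C) {φ : ℕ} (hφ : ∀ t ∈ C, {x : Ω | t • x = x}.ncard = φ)
    {a b : Ω} (hab : a ≠ b) :
    C.ncard * (φ * (φ - 1)) = Nat.card Ω * (Nat.card Ω - 1) * {t : X | t ∈ C ∧ t • a = a ∧ t • b = b}.ncard := by
  classical
  have : Fintype X := Fintype.ofFinite X
  have : Fintype Ω := Fintype.ofFinite Ω
  set k := {t : X | t ∈ C ∧ t • a = a ∧ t • b = b}.ncard with hk
  have hk' : ∀ c d : Ω, c ≠ d → {t : X | t ∈ C ∧ t • c = c ∧ t • d = d}.ncard = k := by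
    intro c d hcd
    obtain ⟨g, hg1, hg2⟩ := h2 a b c d hab hcd
    have h1 : {t : X | t ∈ C ∧ t • c = c ∧ t • d = d} =
        (fun t => g * t * g⁻¹) '' {t : X | t ∈ C ∧ t • a = a ∧ t • b = b} := by
      ext t
      constructor
      · rintro ⟨h3, h4, h5⟩
        refine ⟨g⁻¹ * t * g, ⟨by simpa using hC t h3 g⁻¹, ?_, ?_⟩, by group⟩
        · rw [mul_smul, mul_smul, hg1, h4, ← hg1, inv_smul_smul]
        · rw [mul_smul, mul_smul, hg2, h5, ← hg2, inv_smul_smul]
      · rintro ⟨s, ⟨h3, h4, h5⟩, rfl⟩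
        refine ⟨hC s h3 g, ?_, ?_⟩
        · show (g * s * g⁻¹) • c = c
          rw [mul_smul, mul_smul, ← hg1, inv_smul_smul, h4]
        · show (g * s * g⁻¹) • d = d
          rw [mul_smul, mul_smul, ← hg2, inv_smul_smul, h5]
    rw [h1, Set.ncard_image_of_injective]
    intro x y hxy
    simpa using hxy
  let D : Finset (Ω × Ω) := Finset.univ.filter fun x => x.1 ≠ x.2
  have hD : D.card = Nat.card Ω * (Nat.card Ω - 1) := by
    have : D = Finset.univ.offDiag := by
      ext x; simp [D]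
    rw [this, Finset.offDiag_card, Finset.card_univ, Nat.card_eq_fintype_card, Nat.mul_sub, mul_one]
  have e1 : ∀ t ∈ C.toFinset, ∑ x ∈ D, (if t • x.1 = x.1 ∧ t • x.2 = x.2 then 1 else 0) = φ * (φ - 1) := by
    intro t ht
    have hφ' := hφ t (Set.mem_toFinset.1 ht)
    rw [Set.ncard_eq_toFinset_card', Set.toFinset_ofPred] at hφ'
    rw [Finset.sum_boole]
    have h1 : (D.filter fun x => t • x.1 = x.1 ∧ t • x.2 = x.2) = (Finset.univ.filter fun x : Ω => t • x = x).offDiag := by
      ext x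
      simp only [D, Finset.mem_filter, Finset.mem_univ, true_and, Finset.mem_offDiag]
      tauto
    rw [h1, Finset.offDiag_card, hφ', Nat.mul_sub, mul_one]
    simp
  have e2 : ∀ x ∈ D, ∑ t ∈ C.toFinset, (if t • x.1 = x.1 ∧ t • x.2 = x.2 then 1 else 0) = k := by
    intro x hx
    rw [← hk' x.1 x.2 (by simpa [D] using hx), Finset.sum_boole, Set.ncard_eq_toFinset_card']
    simp only [Nat.cast_id]
    congr 1
    ext t
    simp
    tauto
  have e3 : ∑ t ∈ C.toFinset, ∑ x ∈ D, (if t • x.1 = x.1 ∧ t • x.2 = x.2 then 1 else 0) =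
      ∑ x ∈ D, ∑ t ∈ C.toFinset, (if t • x.1 = x.1 ∧ t • x.2 = x.2 then 1 else 0) := Finset.sum_comm
  rw [Finset.sum_congr rfl e1, Finset.sum_congr rfl e2, Finset.sum_const, Finset.sum_const,
    smul_eq_mul, smul_eq_mul, hD] at e3
  rw [Set.ncard_eq_toFinset_card', e3]

end Cfsg.Agent.H386.HalfTwo
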