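import Cfsg.Agent.H50.HerMain
import Cfsg.Agent.H488.ThreeHalf

/-!
# `(2+1/2)`-transitive affine groups in characteristic two, linear form (helper386)

`LH G m` : `G ≤ GL(V)`, `V` over `ZMod 2`, transitive on the nonzero vectors, and all the orbits of `G_v` on the vectors
other than `0, v` have length `m`.
-/

set_option autoImplicit false
set_option linter.unusedSectionVars false

namespace Cfsg.Agent.H386.HalfTwo

open Module MulAction

universe u

variable {V : Type u} [AddCommGroup V] [Module (ZMod 2) V] [Finite V] [Nontrivial V]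

/-- the stabiliser of `v` in `G` -/
def St (G : Subgroup (V ≃ₗ[ZMod 2] V)) (v : V) : Subgroup (V ≃ₗ[ZMod 2] V) := G ⊓ stabilizer (V ≃ₗ[ZMod 2] V) v

theorem mem_St {G : Subgroup (V ≃ₗ[ZMod 2] V)} {v : V} {g : V ≃ₗ[ZMod 2] V} : g ∈ St G v ↔ g ∈ G ∧ g v = v := by
  rw [St, Subgroup.mem_inf, mem_stabilizer_iff]
  rfl

/-- `(2+1/2)`-transitive linear groups -/
structure LH (G : Subgroup (V ≃ₗ[ZMod 2] V)) (m : ℕ) : Prop where
  tr : ∀ v w : V, v ≠ 0 → w ≠ 0 → ∃ g ∈ G, g v = w
  orb : ∀ v w : V, v ≠ 0 → w ≠ 0 → w ≠ v → Nat.card (orbit (St G v) w) = m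

theorem finite_gl : Finite (V ≃ₗ[ZMod 2] V) := by
  have : Finite (V → V) := inferInstance
  exact Finite.of_injective (fun g : V ≃ₗ[ZMod 2] V => (g : V → V)) (fun g h hgh => by
    ext v; exact congrFun hgh v)

variable {G : Subgroup (V ≃ₗ[ZMod 2] V)} {m : ℕ}

theorem mem_orbit_St {v w x : V} : x ∈ orbit (St G v) w ↔ ∃ g ∈ G, g v = v ∧ g w = x := by
  constructor
  · rintro ⟨g, rfl⟩
    exact ⟨g, (mem_St.1 g.2).1, (mem_St.1 g.2).2, rfl⟩
  · rintro ⟨g, hg, h1, rfl⟩
    exact ⟨⟨g, mem_St.2 ⟨hg, h1⟩⟩, rfl⟩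

theorem ncard_compl {v : V} (hv : v ≠ 0) : ({x : V | x ≠ 0 ∧ x ≠ v} : Set V).ncard = Nat.card V - 2 := by
  have h1 : ({x : V | x ≠ 0 ∧ x ≠ v} : Set V) = ({0, v} : Set V)ᶜ := by
    ext x; simp
  rw [h1, Set.ncard_compl, Set.ncard_pair hv.symm]

omit [Nontrivial V] in
theorem ncard_compl_zero : ({x : V | x ≠ 0} : Set V).ncard = Nat.card V - 1 := by
  have h1 : ({x : V | x ≠ 0} : Set V) = ({0} : Set V)ᶜ := by
    ext x; simp
  rw [h1, Set.ncard_compl, Set.ncard_singleton]

namespace LH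

variable (H : LH G m)
include H

theorem dvd : m ∣ Nat.card V - 2 := by
  obtain ⟨v, hv⟩ := exists_ne (0 : V)
  rw [← ncard_compl hv]
  refine Cfsg.Agent.H488.ThreeHalf.dvd_ncard_of_orbits (St G v) _ ?_ ?_
  · rintro g hg x ⟨hx1, hx2⟩
    rw [mem_St] at hg
    refine ⟨?_, ?_⟩
    · show g x ≠ 0
      exact fun h => hx1 ((map_eq_zero_iff g g.injective).1 h)
    · show g x ≠ v
      intro h
      apply hx2
      rw [← hg.2] at h
      exact g.injective h
  · intro x hx
    exact H.orb v x hv hx.1 hx.2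

/-- `|G| = (|V| - 1) |G_v|` -/
theorem card_eq {v : V} (hv : v ≠ 0) : Nat.card G = (Nat.card V - 1) * Nat.card (St G v) := by
  have := finite_gl (V := V)
  have h1 : Nat.card (orbit G v) * Nat.card (stabilizer G v) = Nat.card G := by
    rw [← Nat.card_prod]
    exact Nat.card_congr (orbitProdStabilizerEquivGroup G v)
  have h2 : orbit G v = {x : V | x ≠ 0} := by
    ext x
    constructor
    · rintro ⟨g, rfl⟩
      show (g : V ≃ₗ[ZMod 2] V) v ≠ 0
      exact fun h => hv ((map_eq_zero_iff (g : V ≃ₗ[ZMod 2] V) (g : V ≃ₗ[ZMod 2] V).injective).1 h)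
    · intro hx
      obtain ⟨g, hg, h⟩ := H.tr v x hv hx
      exact ⟨⟨g, hg⟩, h⟩
  have h3 : Nat.card (stabilizer G v) = Nat.card (St G v) := by
    refine Nat.card_congr
      { toFun := fun g => ⟨g.1.1, mem_St.2 ⟨g.1.2, g.2⟩⟩
        invFun := fun g => ⟨⟨g.1, (mem_St.1 g.2).1⟩, (mem_St.1 g.2).2⟩
        left_inv := fun _ => rfl
        right_inv := fun _ => rfl }
  rw [← h1, h2, h3, Nat.card_coe_set_eq, ncard_compl_zero]

/-- the group has odd order if `m` is odd -/
theorem two_dvd (h2 : 2 ∣ Nat.card G) (hV : Even (Nat.card V)) : 2 ∣ m := by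
  classical
  have := finite_gl (V := V)
  have : Fact (Nat.Prime 2) := ⟨Nat.prime_two⟩
  have : Fintype V := Fintype.ofFinite V
  obtain ⟨t, ht⟩ := exists_prime_orderOf_dvd_card' (G := G) 2 h2
  have ht2 : (t : V ≃ₗ[ZMod 2] V) * t = 1 := by
    have := pow_orderOf_eq_one t
    rw [ht, pow_two] at this
    exact congrArg Subtype.val this
  have htt : ∀ x : V, (t : V ≃ₗ[ZMod 2] V) ((t : V ≃ₗ[ZMod 2] V) x) = x := fun x => DFunLike.congr_fun ht2 x
  obtain ⟨v, hv⟩ : ∃ v, (t : V ≃ₗ[ZMod 2] V) v ≠ v := by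
    by_contra hcon
    push Not at hcon
    have : t = 1 := by
      apply Subtype.ext
      ext v
      exact hcon v
    rw [this, orderOf_one] at ht
    exact absurd ht (by norm_num)
  set w := (t : V ≃ₗ[ZMod 2] V) v with hw
  have hv0 : v ≠ 0 := by
    rintro rfl
    exact hv (map_zero _)
  have hw0 : w ≠ 0 := fun h => hv0 ((map_eq_zero_iff (t : V ≃ₗ[ZMod 2] V) (t : V ≃ₗ[ZMod 2] V).injective).1 h)
  let O : Finset (V × V) := Finset.univ.filter fun x => ∃ g ∈ G, g v = x.1 ∧ g w = x.2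
  -- the size of `O`
  have hO : O.card = (Nat.card V - 1) * m := by
    have h1 : O = (Finset.univ.filter fun x : V => x ≠ 0).biUnion
        (fun x => O.filter fun y => y.1 = x) := by
      ext y
      simp only [Finset.mem_biUnion, Finset.mem_filter, Finset.mem_univ, true_and]
      constructor
      · intro hy
        refine ⟨y.1, ?_, hy, rfl⟩
        obtain ⟨g, hg, h1, h2⟩ := (Finset.mem_filter.1 hy).2
        rw [← h1]
        exact fun h => hv0 ((map_eq_zero_iff g g.injective).1 h)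
      · rintro ⟨x, hx, hy, -⟩
        exact hy
    rw [h1, Finset.card_biUnion]
    · have h2 : ∀ x ∈ (Finset.univ.filter fun x : V => x ≠ 0), (O.filter fun y => y.1 = x).card = m := by
        intro x hx
        obtain ⟨g, hg, hgx⟩ := H.tr v x hv0 (Finset.mem_filter.1 hx).2
        rw [← H.orb v w hv0 hw0 hv, Nat.card_coe_set_eq, Set.ncard_eq_toFinset_card']
        refine (Finset.card_bij (fun y _ => (x, g y)) ?_ ?_ ?_).symm
        · intro y hy
          rw [Set.mem_toFinset, mem_orbit_St] at hy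
          obtain ⟨h, hh, h3, h4⟩ := hy
          simp only [O, Finset.mem_filter, Finset.mem_univ, true_and, and_true]
          refine ⟨g * h, G.mul_mem hg hh, ?_, ?_⟩
          · show g (h v) = x
            rw [h3, hgx]
          · show g (h w) = g y
            rw [h4]
        · intro y1 _ y2 _ h12
          exact g.injective (Prod.ext_iff.1 h12).2
        · rintro ⟨x', y'⟩ hy
          simp only [O, Finset.mem_filter, Finset.mem_univ, true_and] at hy
          obtain ⟨⟨k, hk, h3, h4⟩, rfl⟩ := hy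
          refine ⟨g⁻¹ y', ?_, ?_⟩
          · rw [Set.mem_toFinset, mem_orbit_St]
            refine ⟨g⁻¹ * k, G.mul_mem (G.inv_mem hg) hk, ?_, ?_⟩
            · show g⁻¹ (k v) = v
              rw [h3, ← hgx]
              exact g.symm_apply_apply v
            · show g⁻¹ (k w) = g⁻¹ y'
              rw [h4]
          · show (x', g (g⁻¹ y')) = (x', y')
            congr 1
            exact g.apply_symm_apply y'
      rw [Finset.sum_congr rfl h2, Finset.sum_const, smul_eq_mul]
      congr 1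
      rw [← ncard_compl_zero, Set.ncard_eq_toFinset_card']
      congr 1
      ext x
      simp
    · intro x _ y _ hxy
      rw [Function.onFun, Finset.disjoint_left]
      intro z hz1 hz2
      exact hxy ((Finset.mem_filter.1 hz1).2.symm.trans (Finset.mem_filter.1 hz2).2)
  have hpar : ((O.card : ℕ) : ZMod 2) = 0 := by
    rw [Finset.card_eq_sum_ones, Nat.cast_sum]
    refine Finset.sum_involution (fun y _ => (y.2, y.1)) ?_ ?_ ?_ ?_
    · intro y _
      exact CharTwo.add_self_eq_zero _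
    · rintro ⟨x, y⟩ hy - h
      simp only [O, Finset.mem_filter, Finset.mem_univ, true_and] at hy
      obtain ⟨g, hg, h1, h2⟩ := hy
      have h3 : y = x := (Prod.ext_iff.1 h).1
      rw [← h1, ← h2] at h3
      exact hv (g.injective h3)
    · rintro ⟨x, y⟩ hy
      simp only [O, Finset.mem_filter, Finset.mem_univ, true_and] at hy ⊢
      obtain ⟨g, hg, h1, h2⟩ := hy
      refine ⟨g * t, G.mul_mem hg t.2, ?_, ?_⟩
      · show g ((t : V ≃ₗ[ZMod 2] V) v) = y
        exact h2
      · show g ((t : V ≃ₗ[ZMod 2] V) w) = x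
        rw [hw, htt, h1]
    · intro y _
      rfl
  rw [ZMod.natCast_eq_zero_iff, hO] at hpar
  rcases (Nat.Prime.dvd_mul Nat.prime_two).1 hpar with h | h
  · exfalso
    have : 1 ≤ Nat.card V := Nat.card_pos
    obtain ⟨k, hk⟩ := hV
    omega
  · exact h

/-- prime divisors of `|G_v|` are at most `m` -/
theorem prime_le {v : V} (hv : v ≠ 0) {p : ℕ} (hp : p.Prime) (hd : p ∣ Nat.card (St G v)) : p ≤ m := by
  classical
  have := finite_gl (V := V)
  have := Fact.mk hp
  obtain ⟨x, hx⟩ := exists_prime_orderOf_dvd_card' p hd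
  by_contra hcon
  push Not at hcon
  have h1 : (x : V ≃ₗ[ZMod 2] V) = 1 := by
    ext c
    show (x : V ≃ₗ[ZMod 2] V) c = c
    by_cases hc0 : c = 0
    · rw [hc0, map_zero]
    by_cases hcv : c = v
    · rw [hcv]; exact (mem_St.1 x.2).2
    have hz : Nat.card (orbit (Subgroup.zpowers (x : V ≃ₗ[ZMod 2] V)) c) ≤ m := by
      rw [← H.orb v c hv hc0 hcv]
      refine Nat.card_mono (Set.toFinite _) ?_
      rintro _ ⟨n, rfl⟩
      exact ⟨⟨n, (Subgroup.zpowers_le.2 x.2) n.2⟩, rfl⟩
    have hdv : Nat.card (orbit (Subgroup.zpowers (x : V ≃ₗ[ZMod 2] V)) c) ∣ p := by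
      have := Cfsg.Agent.H488.ThreeHalf.card_orbit_dvd_card (Subgroup.zpowers (x : V ≃ₗ[ZMod 2] V)) c
      rwa [Nat.card_zpowers, Subgroup.orderOf_coe, hx] at this
    rcases (Nat.dvd_prime hp).1 hdv with h | h
    · rw [Nat.card_eq_one_iff_unique] at h
      have h2 : (⟨(x : V ≃ₗ[ZMod 2] V) • c, ⟨⟨x, Subgroup.mem_zpowers _⟩, rfl⟩⟩ :
          orbit (Subgroup.zpowers (x : V ≃ₗ[ZMod 2] V)) c) = ⟨c, mem_orbit_self c⟩ := h.1.elim _ _
      exact congrArg Subtype.val h2
    · omega
  have h2 : x = 1 := Subtype.ext h1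
  rw [h2, orderOf_one] at hx
  exact hp.one_lt.ne hx

end LH

end Cfsg.Agent.H386.HalfTwo
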