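import Cfsg.Agent.H386.HalfTwo.Lin

/-!
# `(2+1/2)`-transitive affine groups in characteristic two: semilinear groups of dimension one (helper386)
-/

set_option autoImplicit false
set_option linter.unusedSectionVars false

namespace Cfsg.Agent.H386.HalfTwo

open Module MulAction Cfsg.Agent.H50.Her

universe u

variable {V : Type u} [AddCommGroup V] [Module (ZMod 2) V] [Finite V] [Nontrivial V]
variable {G : Subgroup (V ≃ₗ[ZMod 2] V)} {m : ℕ}

theorem char_two_of_equiv {F : Type*} [Field F] (e : V ≃+ F) : CharP F 2 := by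
  apply CharTwo.of_one_ne_zero_of_two_eq_zero one_ne_zero
  have h : (e.symm 1 : V) + e.symm 1 = 0 := by
    have : (2 : ZMod 2) • (e.symm 1 : V) = 0 := by
      rw [show (2 : ZMod 2) = 0 from rfl, zero_smul]
    rwa [two_smul] at this
  have h2 := congrArg e h
  rw [map_add, map_zero, e.apply_symm_apply] at h2
  rw [← one_add_one_eq_two]
  exact h2

/-- the Galois part: a subgroup of the Galois group of a finite field over `ZMod 2` all whose orbits outside the prime
field have the same length -/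
theorem galois {F : Type*} [Field F] [Finite F] [Algebra (ZMod 2) F] (Γ : Subgroup (F ≃ₐ[ZMod 2] F)) {m : ℕ}
    (h3 : 2 < Nat.card F) (h : ∀ x : F, x ≠ 0 → x ≠ 1 → Nat.card (orbit Γ x) = m) (hne : Γ ≠ ⊥) :
    Γ = ⊤ ∧ (finrank (ZMod 2) F).Prime := by
  classical
  have hfin : Finite (F ≃ₐ[ZMod 2] F) := inferInstance
  have hinf : FiniteDimensional (ZMod 2) F := inferInstance
  -- a primitive element
  obtain ⟨y, hy⟩ : ∃ y : Fˣ, ∀ x : Fˣ, x ∈ Subgroup.zpowers y := IsCyclic.exists_generator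
  have hy1 : (y : F) ≠ 1 := by
    intro hy1
    have hy1' : y = 1 := Units.ext hy1
    have h5 : ∀ x : Fˣ, x = 1 := by
      intro x
      have := hy x
      rw [hy1', Subgroup.zpowers_one_eq_bot, Subgroup.mem_bot] at this
      exact this
    have h6 : ∀ x : F, x = 0 ∨ x = 1 := by
      intro x
      by_cases hx : x = 0
      · exact Or.inl hx
      · exact Or.inr (congrArg Units.val (h5 (Units.mk0 x hx)))
    have h7 : (Set.univ : Set F) ⊆ {0, 1} := by
      intro x _
      rcases h6 x with hx | hx <;> simp [hx]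
    have h8 := Set.ncard_le_ncard h7 (Set.toFinite _)
    rw [Set.ncard_univ, Set.ncard_pair zero_ne_one] at h8
    omega
  have hfy : ∀ σ : F ≃ₐ[ZMod 2] F, σ (y : F) = y → σ = 1 := by
    intro σ hσ
    ext x
    by_cases hx : x = 0
    · rw [hx, map_zero, map_zero]
    · obtain ⟨k, hk⟩ := Subgroup.mem_zpowers_iff.1 (hy (Units.mk0 x hx))
      have hx' : x = (y : F) ^ k := by
        have := congrArg Units.val hk
        rw [Units.val_zpow_eq_zpow_val] at this
        exact this.symm
      rw [hx', map_zpow₀, hσ]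
      rfl
  have hm : m = Nat.card Γ := by
    rw [← h y y.ne_zero hy1]
    have h1 : Nat.card (orbit Γ (y : F)) * Nat.card (stabilizer Γ (y : F)) = Nat.card Γ := by
      rw [← Nat.card_prod]
      exact Nat.card_congr (orbitProdStabilizerEquivGroup Γ (y : F))
    have h2 : stabilizer Γ (y : F) = ⊥ := by
      rw [eq_bot_iff]
      intro σ hσ
      rw [Subgroup.mem_bot]
      exact Subtype.ext (hfy σ.1 hσ)
    rw [h2, Subgroup.card_bot, mul_one] at h1
    exact h1
  -- nontrivial elements have no fixed points outside the prime field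
  have hfix : ∀ σ ∈ Γ, σ ≠ 1 → ∀ x : F, σ x = x → x = 0 ∨ x = 1 := by
    intro σ hσ hσ1 x hx
    by_contra hcon
    push Not at hcon
    have h1 := h x hcon.1 hcon.2
    have h2 : Nat.card (orbit Γ x) * Nat.card (stabilizer Γ x) = Nat.card Γ := by
      rw [← Nat.card_prod]
      exact Nat.card_congr (orbitProdStabilizerEquivGroup Γ x)
    rw [h1, hm] at h2
    have h3 : Nat.card (stabilizer Γ x) = 1 := by
      have : 0 < Nat.card Γ := Nat.card_pos
      exact Nat.eq_of_mul_eq_mul_left this (by rw [h2, mul_one])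
    have h4 : stabilizer Γ x = ⊥ := Subgroup.card_eq_one.1 h3
    have h5 : (⟨σ, hσ⟩ : Γ) ∈ stabilizer Γ x := hx
    rw [h4, Subgroup.mem_bot] at h5
    exact hσ1 (congrArg Subtype.val h5)
  have hord : ∀ σ ∈ Γ, σ ≠ 1 → orderOf σ = finrank (ZMod 2) F := by
    intro σ hσ hσ1
    have h1 : IntermediateField.fixedField (Subgroup.zpowers σ) = ⊥ := by
      rw [eq_bot_iff]
      intro x hx
      rw [IntermediateField.mem_fixedField_iff] at hx
      rcases hfix σ hσ hσ1 x (hx σ (Subgroup.mem_zpowers σ)) with rfl | rfl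
      · exact zero_mem _
      · exact one_mem _
    have h2 := IntermediateField.finrank_fixedField_eq_card (F := ZMod 2) (E := F) (H := Subgroup.zpowers σ)
    rw [Nat.card_zpowers, h1, IntermediateField.finrank_bot'] at h2
    exact h2.symm
  have hcard : Nat.card (F ≃ₐ[ZMod 2] F) = finrank (ZMod 2) F := IsGalois.card_aut_eq_finrank (ZMod 2) F
  have htop : Γ = ⊤ := by
    obtain ⟨⟨σ, hσ⟩, hσ1⟩ := Subgroup.ne_bot_iff_exists_ne_one.1 hne
    have hσ1' : σ ≠ 1 := fun h => hσ1 (Subtype.ext h)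
    have h1 := hord σ hσ hσ1'
    have h2 : Subgroup.zpowers σ = ⊤ := by
      rw [← Subgroup.card_eq_iff_eq_top, Nat.card_zpowers, h1, hcard]
    rw [eq_top_iff, ← h2]
    exact Subgroup.zpowers_le.2 hσ
  refine ⟨htop, ?_⟩
  have h1 : finrank (ZMod 2) F ≠ 1 := by
    intro h1
    apply hne
    rw [h1] at hcard
    rw [eq_bot_iff]
    intro x _
    have := Nat.card_eq_one_iff_unique.1 hcard
    rw [Subgroup.mem_bot]
    exact this.1.elim _ _
  obtain ⟨p, hp, hpd⟩ := Nat.exists_prime_and_dvd h1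
  have := Fact.mk hp
  obtain ⟨σ, hσ⟩ := exists_prime_orderOf_dvd_card' (G := F ≃ₐ[ZMod 2] F) p (by rw [hcard]; exact hpd)
  have h2 := hord σ (by rw [htop]; exact Subgroup.mem_top _) (by
    intro h
    rw [h, orderOf_one] at hσ
    exact hp.one_lt.ne hσ)
  rw [← h2, hσ]
  exact hp

/-- **semilinear groups of dimension one** -/
theorem LH.semi (H : LH G m) (hV : 2 < Nat.card V) (hS : SemiOut 2 V G) :
    m = 1 ∨ ∃ p : ℕ, p.Prime ∧ Nat.card V = 2 ^ p ∧ Nat.card G = (2 ^ p - 1) * p := by
  classical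
  have hfgl := finite_gl (V := V)
  obtain ⟨F, _, _, e, he⟩ := hS
  have hchar : CharP F 2 := char_two_of_equiv e
  let : Algebra (ZMod 2) F := ZMod.algebra F 2
  have hcard : Nat.card F = Nat.card V := (Nat.card_congr e.toEquiv).symm
  set v := e.symm 1 with hv
  have hv0 : v ≠ 0 := by
    intro h
    have := congrArg e h
    rw [hv, e.apply_symm_apply, map_zero] at this
    exact one_ne_zero this
  have hev : e v = 1 := e.apply_symm_apply 1
  have hex : ∀ g ∈ St G v, ∃ σ : F ≃+* F, ∀ x : V, e (g x) = σ (e x) := by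
    intro g hg
    obtain ⟨hgG, hgv⟩ := mem_St.1 hg
    obtain ⟨c, σ, h⟩ := he g hgG
    have h1 := h v
    rw [hgv, hev, map_one, mul_one] at h1
    exact ⟨σ, fun x => by rw [h x, ← h1, one_mul]⟩
  let Γ : Subgroup (F ≃ₐ[ZMod 2] F) :=
    { carrier := {σ | ∃ g ∈ St G v, ∀ x : V, e (g x) = σ (e x)}
      one_mem' := ⟨1, one_mem _, fun x => rfl⟩
      mul_mem' := by
        rintro σ τ ⟨g, hg, h1⟩ ⟨h, hh, h2⟩
        refine ⟨g * h, mul_mem hg hh, fun x => ?_⟩
        show e (g (h x)) = σ (τ (e x))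
        rw [h1, h2]
      inv_mem' := by
        rintro σ ⟨g, hg, h1⟩
        refine ⟨g⁻¹, inv_mem hg, fun x => ?_⟩
        have h2 := h1 (g⁻¹ x)
        have h3 : g (g⁻¹ x) = x := g.apply_symm_apply x
        rw [h3] at h2
        show e (g⁻¹ x) = σ.symm (e x)
        rw [h2, AlgEquiv.symm_apply_apply] }
  have hmemΓ : ∀ σ, σ ∈ Γ ↔ ∃ g ∈ St G v, ∀ x : V, e (g x) = σ (e x) := fun σ => Iff.rfl
  have hΓex : ∀ g ∈ St G v, ∃ σ ∈ Γ, ∀ x : V, e (g x) = σ (e x) := by
    intro g hg
    obtain ⟨σ, hσ⟩ := hex g hg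
    let σ' : F ≃ₐ[ZMod 2] F := AlgEquiv.ofRingEquiv (f := σ) (fun r => by
      have : (σ : F →+* F).comp (algebraMap (ZMod 2) F) = algebraMap (ZMod 2) F := RingHom.ext_zmod _ _
      exact DFunLike.congr_fun this r)
    exact ⟨σ', ⟨g, hg, fun x => hσ x⟩, fun x => hσ x⟩
  have hcardΓ : Nat.card Γ = Nat.card (St G v) := by
    refine (Nat.card_congr (Equiv.ofBijective
      (fun g : St G v => (⟨(hΓex g g.2).choose, (hΓex g g.2).choose_spec.1⟩ : Γ)) ⟨?_, ?_⟩)).symm
    · intro g h hgh
      have h1 := (hΓex g g.2).choose_spec.2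
      have h2 := (hΓex h h.2).choose_spec.2
      have h3 : (hΓex g g.2).choose = (hΓex h h.2).choose := congrArg Subtype.val hgh
      apply Subtype.ext
      ext x
      apply e.injective
      rw [h1, h2, h3]
    · rintro ⟨σ, g, hg, h1⟩
      refine ⟨⟨g, hg⟩, ?_⟩
      apply Subtype.ext
      ext x
      have h2 := (hΓex g hg).choose_spec.2 (e.symm x)
      have h3 := h1 (e.symm x)
      rw [e.apply_symm_apply] at h2 h3
      rw [← h3]
      exact h2.symm
  have horb : ∀ x : F, x ≠ 0 → x ≠ 1 → Nat.card (orbit Γ x) = m := by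
    intro x hx0 hx1
    have h1 := H.orb v (e.symm x) hv0 (by
      intro h
      apply hx0
      rw [← e.apply_symm_apply x, h, map_zero]) (by
      intro h
      apply hx1
      rw [← e.apply_symm_apply x, h, hev])
    rw [← h1]
    have h2 : orbit Γ x = e '' (orbit (St G v) (e.symm x)) := by
      ext z
      constructor
      · rintro ⟨⟨σ, g, hg, h3⟩, rfl⟩
        refine ⟨g (e.symm x), ⟨⟨g, hg⟩, rfl⟩, ?_⟩
        rw [h3, e.apply_symm_apply]
        rfl
      · rintro ⟨_, ⟨g, rfl⟩, rfl⟩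
        obtain ⟨σ, hσ, h3⟩ := hΓex g g.2
        refine ⟨⟨σ, hσ⟩, ?_⟩
        have h4 := h3 (e.symm x)
        rw [e.apply_symm_apply] at h4
        exact h4.symm
    rw [h2]
    exact Nat.card_image_of_injective e.injective _
  by_cases hΓ : Γ = ⊥
  · left
    -- some point outside
    obtain ⟨x, hx0, hx1⟩ : ∃ x : F, x ≠ 0 ∧ x ≠ 1 := by
      by_contra hcon
      push Not at hcon
      have h7 : (Set.univ : Set F) ⊆ {0, 1} := by
        intro x _
        by_cases hx : x = 0
        · simp [hx]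
        · simp [hcon x hx]
      have h8 := Set.ncard_le_ncard h7 (Set.toFinite _)
      rw [Set.ncard_univ, Set.ncard_pair zero_ne_one, hcard] at h8
      omega
    have h1 := horb x hx0 hx1
    have h2 : Nat.card Γ = 1 := by rw [hΓ, Subgroup.card_bot]
    have h3 := Cfsg.Agent.H488.ThreeHalf.card_orbit_dvd_card Γ x
    rw [h1, h2] at h3
    exact Nat.dvd_one.1 h3
  · right
    obtain ⟨h1, h2⟩ := galois Γ (by rw [hcard]; exact hV) horb hΓ
    refine ⟨finrank (ZMod 2) F, h2, ?_, ?_⟩
    · rw [← hcard, Module.natCard_eq_pow_finrank (K := ZMod 2), Nat.card_zmod]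
    · have h3 : Nat.card (F ≃ₐ[ZMod 2] F) = finrank (ZMod 2) F := IsGalois.card_aut_eq_finrank (ZMod 2) F
      rw [H.card_eq hv0, ← hcardΓ, h1, Subgroup.card_top, h3, ← hcard,
        Module.natCard_eq_pow_finrank (K := ZMod 2), Nat.card_zmod]

end Cfsg.Agent.H386.HalfTwo
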